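import Cfsg.Agent.J2.Fusion
import Cfsg.Agent.HJT.TStruct
import Cfsg.Agent.Quad.HeartCases
import Cfsg.Agent.Comp.LocalLayer
import Cfsg.Agent.LargeExtra.SimpleCriterion

/-!
# The presented Hall–Janko group and an injection into a group with the same involution centraliser
-/

set_option autoImplicit false
set_option maxRecDepth 100000
set_option maxHeartbeats 1000000
set_option linter.style.haveILetI false

namespace CfsgLib.CoFive

open Cfsg CfsgLib CfsgLib.Coset CfsgLib.J2.Perm

theorem simple_a5 : IsSimpleGroup (alternatingGroup (Fin 5)) := alternatingGroup.isSimpleGroup_five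

theorem card_a5 : Nat.card (alternatingGroup (Fin 5)) = 60 := by
  rw [Nat.card_eq_fintype_card]; decide

theorem z_ne_one : (z : P) ≠ 1 := by
  intro h
  have h1 : (qElt 1 : Q) = qElt 0 := by
    rw [qElt_zero]
    refine Subtype.ext (Subtype.ext ?_)
    rw [qElt_one_eq, h]; rfl
  exact absurd (qElt_bijective.1 h1) (by decide)

theorem orderOf_z : orderOf (z : P) = 2 :=
  orderOf_eq_prime (hp := ⟨Nat.prime_two⟩) (by rw [pow_two, z_sq]) z_ne_one

theorem centralizer_Q : Subgroup.centralizer (Q : Set C) ≤ Q := by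
  haveI := finite_P
  haveI : Q.Normal := MonoidHom.normal_ker η
  haveI : IsSimpleGroup (C ⧸ Q) := by
    haveI := simple_a5
    exact quotQ.isSimpleGroup
  rcases ((inferInstance : (Subgroup.centralizer (Q : Set C)).Normal).map (QuotientGroup.mk' Q)
    (QuotientGroup.mk'_surjective Q)).eq_bot_or_eq_top with h | h
  · intro x hx
    have : QuotientGroup.mk' Q x ∈ (Subgroup.centralizer (Q : Set C)).map (QuotientGroup.mk' Q) :=
      Subgroup.mem_map_of_mem _ hx
    rw [h, Subgroup.mem_bot, ← MonoidHom.mem_ker, QuotientGroup.ker_mk'] at this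
    exact this
  · exfalso
    have hd := act_exists
    simp only [Bool.and_eq_true, List.any_eq_true, List.all_eq_true, Bool.not_eq_true'] at hd
    obtain ⟨⟨⟨a, ha, r, hr, hn1, hn2⟩, hla⟩, hlr⟩ := hd
    obtain ⟨t, ht, rfl⟩ := List.getElem_of_mem hr
    let a' : C := ⟨ev Lp a, mem_C_word (List.mem_append_left _ ha)⟩
    let r' : Q := qElt ⟨t, q_len ▸ ht⟩
    have hr' : ((r' : C) : P) = ev Lp qWords[t] := by simp [r', qElt, List.getElem?_eq_getElem ht]
    obtain ⟨c, hc, hcq⟩ : ∃ c ∈ Subgroup.centralizer (Q : Set C), c⁻¹ * a' ∈ Q := by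
      have : QuotientGroup.mk' Q a' ∈ (Subgroup.centralizer (Q : Set C)).map (QuotientGroup.mk' Q) := by
        rw [h]; trivial
      obtain ⟨c, hc, he⟩ := Subgroup.mem_map.1 this
      exact ⟨c, hc, QuotientGroup.eq.1 he⟩
    obtain ⟨i, hi⟩ := qElt_bijective.2 ⟨c⁻¹ * a', hcq⟩
    have hconj : a' * (r' : C) * a'⁻¹ = ((qElt i * r' * (qElt i)⁻¹ : Q) : C) := by
      have hcomm := Subgroup.mem_centralizer_iff.1 hc _ ((qElt i * r' * (qElt i)⁻¹ : Q)).2
      have e : a' = c * (qElt i : C) := by rw [hi]; group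
      push_cast at hcomm ⊢
      rw [e]
      calc c * (qElt i : C) * (r' : C) * (c * (qElt i : C))⁻¹
          = c * ((qElt i : C) * (r' : C) * (qElt i : C)⁻¹) * c⁻¹ := by group
        _ = _ := by rw [← hcomm, mul_inv_cancel_right]
    have hlen : checkLetters 5 [a ++ qWords[t] ++ a.reverse] = true ∧ checkLetters 5 [0 :: qWords[t]] = true := by
      have l1 := letters_lt (hla a ha).1 a (by simp)
      have l2 := letters_lt (hlr _ (List.getElem_mem ht)) qWords[t] (by simp)
      constructor <;> refine check_of_lt fun l hl => ?_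
      · simp only [List.mem_append, List.mem_reverse] at hl
        rcases hl with (hl | hl) | hl
        · exact l1 l hl
        · exact l2 l hl
        · exact l1 l hl
      · rcases List.mem_cons.mp hl with rfl | hl
        · norm_num
        · exact l2 l hl
    have hval : ev Lp (a ++ qWords[t] ++ a.reverse) = ((a' * (r' : C) * a'⁻¹ : C) : P) := by
      simp [a', ev_append, ev_reverse, hr', mul_assoc]
    rcases ker_comm i ⟨t, q_len ▸ ht⟩ with h1 | h1
    · have e : ev Lp (a ++ qWords[t] ++ a.reverse) = ev Lp qWords[t] := by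
        rw [hval, hconj, h1, ← hr']
      rw [sameW_of_eq hlen.1 (hlr _ (List.getElem_mem ht)) e] at hn1
      exact Bool.noConfusion hn1
    · have e : ev Lp (a ++ qWords[t] ++ a.reverse) = ev Lp (0 :: qWords[t]) := by
        rw [hval, hconj, h1, ev_cons, ← hr']
        push_cast
        rw [qElt_one_eq]; rfl
      rw [sameW_of_eq hlen.1 hlen.2 e] at hn2
      exact Bool.noConfusion hn2

theorem fstar_C : Cfsg.generalizedFittingSubgroup C = Q := by
  haveI := finite_P
  haveI : Fact (Nat.Prime 2) := ⟨Nat.prime_two⟩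
  haveI : Q.Normal := MonoidHom.normal_ker η
  have hQp : IsPGroup 2 Q := IsPGroup.of_card (n := 5) (by rw [card_Q]; norm_num)
  have hle : Q ≤ Cfsg.pCore 2 C := Solvable.le_pCore (p := 2) inferInstance hQp
  have hchar : CharP.HasCharP 2 C := fun x hx =>
    hle (centralizer_Q (Subgroup.centralizer_le (show (Q : Set C) ⊆ _ from hle) hx))
  rw [hchar.Fstar_eq]
  refine le_antisymm ?_ hle
  haveI := simple_a5
  haveI : IsSimpleGroup (C ⧸ Q) := quotQ.isSimpleGroup
  haveI : (Cfsg.pCore 2 C).Normal := Solvable.pCore_normal 2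
  rcases ((inferInstance : (Cfsg.pCore 2 C).Normal).map (QuotientGroup.mk' Q)
    (QuotientGroup.mk'_surjective Q)).eq_bot_or_eq_top with h | h
  · intro x hx
    have : QuotientGroup.mk' Q x ∈ (Cfsg.pCore 2 C).map (QuotientGroup.mk' Q) := Subgroup.mem_map_of_mem _ hx
    rw [h, Subgroup.mem_bot, ← MonoidHom.mem_ker, QuotientGroup.ker_mk'] at this
    exact this
  · exfalso
    have hp := (Solvable.isPGroup_pCore (G := C) 2).map (QuotientGroup.mk' Q)
    rw [h] at hp
    obtain ⟨n, hn⟩ := IsPGroup.iff_card.1 (hp.of_equiv (Subgroup.topEquiv.trans quotQ))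
    rw [card_a5] at hn
    have h3 : 3 ∣ 2 ^ n := hn ▸ (by norm_num : 3 ∣ 60)
    exact absurd ((Nat.prime_three.dvd_of_dvd_pow h3)) (by norm_num)

/-- A word conjugating the involution into the kernel. -/
noncomputable def nwcOK (t : Nat) (u : List Nat) : Bool :=
  sameW (u ++ [0] ++ u.reverse) (qWords.getD t []) && !sameW (u ++ [0] ++ u.reverse) [0]

theorem nwc_exists : ((List.range 32).any fun t => (shortWords 4).any (nwcOK t)) = true := by
  decide +kernel

theorem not_weakly_closed : ∃ g : P, (∃ hq : g * z * g⁻¹ ∈ C, (⟨g * z * g⁻¹, hq⟩ : C) ∈ Q) ∧ g * z * g⁻¹ ≠ z := by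
  obtain ⟨t, ht, hu⟩ := List.any_eq_true.mp nwc_exists
  rw [List.mem_range] at ht
  obtain ⟨u, -, hu⟩ := List.any_eq_true.mp hu
  simp only [nwcOK, Bool.and_eq_true, Bool.not_eq_true'] at hu
  have e : ev Lp u * z * (ev Lp u)⁻¹ = ((qElt ⟨t, ht⟩ : Q) : C).1 := by
    have h := sameW_eq hu.1
    simpa [ev_append, ev_reverse, z, mul_assoc, qElt] using h
  refine ⟨ev Lp u, ⟨e ▸ (qElt ⟨t, ht⟩ : Q).1.2, ?_⟩, fun h => ?_⟩
  · have : (⟨ev Lp u * z * (ev Lp u)⁻¹, e ▸ (qElt ⟨t, ht⟩ : Q).1.2⟩ : C) = (qElt ⟨t, ht⟩ : Q).1 := Subtype.ext e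
    rw [this]; exact (qElt ⟨t, ht⟩).2
  · have h' : ev Lp (u ++ [0] ++ u.reverse) = ev Lp [0] := by
      simpa [ev_append, ev_reverse, z, mul_assoc] using h
    have h1 := hu.1
    simp only [sameW, Bool.and_eq_true] at h1
    rw [sameW_of_eq h1.1.1 (check_of_lt (by simp)) h'] at hu
    exact Bool.noConfusion hu.2

theorem omega_minus : Nonempty (Cfsg.Omega (ZMod 2) (Cfsg.quadFormMinus 1 (ZMod 2) 1 1) ≃* alternatingGroup (Fin 5)) := by
  obtain ⟨e⟩ := Quad.Heart.nonempty_minus_four (F := ZMod 2) (by simp)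
  have hmap : (commutator (Cfsg.isometryGroup (ZMod 2) (Cfsg.quadFormMinus 1 (ZMod 2) 1 1))).map e.toMonoidHom =
      alternatingGroup (Fin 5) := by
    rw [← alternatingGroup.commutator_perm_eq (α := Fin 5) (by simp), commutator_def, commutator_def,
      Subgroup.map_commutator, Subgroup.map_top_of_surjective e.toMonoidHom e.surjective]
  exact ⟨(e.subgroupMap _).trans (MulEquiv.subgroupCongr hmap)⟩

/-- A group containing the presented group with the same centraliser of the involution is no bigger. -/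
theorem card_eq {H : Type*} [Group H] [Finite H] (φ : P →* H) (hφ : Function.Injective φ)
    (hC : Nat.card (Subgroup.centralizer ({φ z} : Set H)) ≤ 1920)
    (hcl : ∃ x y : H, orderOf x = 2 ∧ orderOf y = 2 ∧ ¬ IsConj x y) : Nat.card H = 604800 := by
  haveI := finite_P
  let f : C →* Subgroup.centralizer ({φ z} : Set H) :=
    (φ.comp C.subtype).codRestrict _ fun x => Subgroup.mem_centralizer_singleton_iff.2 (by
      show φ x * φ z = φ z * φ x
      rw [← map_mul, ← map_mul, Subgroup.mem_centralizer_singleton_iff.1 x.2])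
  have hfi : Function.Injective f := fun a b h => Subtype.ext (hφ (congrArg Subtype.val h))
  let ψ : C ≃* Subgroup.centralizer ({φ z} : Set H) :=
    MulEquiv.ofBijective f (hfi.bijective_of_nat_card_le (hC.trans card_C.ge))
  let Qb : Subgroup (Subgroup.centralizer ({φ z} : Set H)) := (η.comp ψ.symm.toMonoidHom).ker
  haveI : Qb.Normal := MonoidHom.normal_ker _
  have hQb : Qb = Q.map ψ.toMonoidHom := by
    rw [Subgroup.map_equiv_eq_comap_symm']
    rfl
  have eQ : Q ≃* Qb := (ψ.subgroupMap Q).trans (MulEquiv.subgroupCongr hQb.symm)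
  have hcq : Subgroup.centralizer (Qb : Set (Subgroup.centralizer ({φ z} : Set H))) ≤ Qb := by
    intro x hx
    show η (ψ.symm x) = 1
    refine centralizer_Q (Subgroup.mem_centralizer_iff.2 fun q hq => ψ.injective ?_)
    rw [map_mul, map_mul, MulEquiv.apply_symm_apply]
    exact Subgroup.mem_centralizer_iff.1 hx _ (by rw [hQb]; exact Subgroup.mem_map_of_mem _ hq)
  have eX : Subgroup.centralizer ({φ z} : Set H) ⧸ Qb ≃* alternatingGroup (Fin 5) :=
    (QuotientGroup.quotientKerEquivRange _).trans (MulEquiv.subgroupCongr (by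
      rw [MonoidHom.range_comp, MonoidHom.range_eq_top.2 ψ.symm.surjective, ← MonoidHom.range_eq_map, range_eq]))
  obtain ⟨g, ⟨hg, hgQ⟩, hne⟩ := not_weakly_closed
  have hgC : φ g * φ z * (φ g)⁻¹ = ((ψ ⟨g * z * g⁻¹, hg⟩ : Subgroup.centralizer ({φ z} : Set H)) : H) := by
    show _ = φ (g * z * g⁻¹)
    simp
  obtain ⟨Qg, a, π, L⟩ := HJT.exists_loc_aux (φ z)
    (by rw [orderOf_injective φ hφ, orderOf_z]) _ rfl Qb hcq
    (LargeExtra.isExtraspecial_equiv eQ extra) (by rw [← Nat.card_congr eQ.toEquiv, card_Q]; norm_num) eX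
    ⟨1, by rw [card_a5, mul_one], by
      rw [alternatingGroup.center_eq_bot (α := Fin 5) (by simp), Subgroup.card_bot]⟩
    ⟨φ g, ⟨hgC ▸ (ψ ⟨g * z * g⁻¹, hg⟩).2, by
      rw [show (⟨φ g * φ z * (φ g)⁻¹, hgC ▸ (ψ ⟨g * z * g⁻¹, hg⟩).2⟩ : Subgroup.centralizer ({φ z} : Set H)) =
        ψ ⟨g * z * g⁻¹, hg⟩ from Subtype.ext hgC, hQb]
      exact Subgroup.mem_map_of_mem _ hgQ⟩, fun h => hne (hφ (by simpa using h))⟩ hcl
  exact L.card_group

/-- The hypotheses on the presented group itself. -/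
theorem presented_hyp : IsSimpleGroup P ∧ ¬ IsMulCommutative P ∧ ∃ z : P, orderOf z = 2 ∧
    ∃ (Q : Subgroup (Subgroup.centralizer ({z} : Set P))) (_ : Q.Normal),
      Cfsg.generalizedFittingSubgroup (Subgroup.centralizer ({z} : Set P)) = Q ∧ Cfsg.IsExtraspecial 2 Q ∧
      Nat.card Q = 2 ^ 5 ∧
      Nonempty ((Subgroup.centralizer ({z} : Set P)) ⧸ Q ≃* Cfsg.Omega (ZMod 2) (Cfsg.quadFormMinus 1 (ZMod 2) 1 1)) ∧
      ∃ g : P, (∃ hq : g * z * g⁻¹ ∈ Subgroup.centralizer ({z} : Set P),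
        (⟨g * z * g⁻¹, hq⟩ : Subgroup.centralizer ({z} : Set P)) ∈ Q) ∧ g * z * g⁻¹ ≠ z := by
  refine ⟨isSimple, fun hab => ?_, z, orderOf_z, Q, MonoidHom.normal_ker η, fstar_C, extra,
    card_Q.trans (by norm_num), ?_, not_weakly_closed⟩
  · obtain ⟨g, ⟨-, -⟩, hne⟩ := not_weakly_closed
    exact hne (by rw [hab.is_comm.comm g z, mul_inv_cancel_right])
  · obtain ⟨e⟩ := omega_minus
    exact ⟨quotQ.trans e.symm⟩

end CfsgLib.CoFive
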