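import Cfsg.Agent.CoFive.Elements
import Cfsg.Agent.Co1Cent.Main

/-!
# The centraliser of the element of order five inside the centraliser of the sign change

It has order at most 19200: at most 64 in the kernel of the reduction, at most 300 in the image.
-/

set_option autoImplicit false
set_option maxRecDepth 100000
set_option maxHeartbeats 1000000
set_option linter.style.haveILetI false

namespace CfsgLib.CoFive

open Cfsg CfsgLib CfsgLib.Golay CfsgLib.Golay.SylowCert CfsgLib.Co1Cent
open CfsgLib.OmegaEight (Idx q2)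

attribute [local irreducible] CfsgLib.Leech.shortVecs CfsgLib.Leech.halfTable CfsgLib.Leech.quarterTable

theorem gE_mem_c0 : gE ∈ c0 := by
  rw [mem_c0, ← tE_zero]; exact (tE_comm (by norm_num)).symm

/-- The element in the centraliser of the sign change. -/
noncomputable def gC : c0 := ⟨gE, gE_mem_c0⟩

/-! ### The reduction of the element -/

/-- A word on coordinate lists. -/
def evalW : List ℕ → List ℤ → List ℤ
  | [], l => l
  | k :: w, l => appL k (evalW w l)

theorem toL_wordElt : ∀ {w : List ℕ}, w.all (· < 29) = true → ∀ v : leechLattice,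
    toL ((wordElt w • v : leechLattice) : GolayPt → ℤ) = evalW w (toL (v : GolayPt → ℤ))
  | [], _, v => by simp [wordElt, evalW]
  | k :: w, h, v => by
    rw [List.all_cons, Bool.and_eq_true, decide_eq_true_eq] at h
    rw [evalW, ← toL_wordElt h.2 v, wordElt, List.map_cons, List.prod_cons, mul_smul]
    exact Classical.choose_spec (exists_letter k) _ h.1

/-- A mask as a vector over two elements. -/
def dec (m : ℕ) : Idx → ZMod 2 :=
  Sum.elim (fun i => if m.testBit i.val then 1 else 0) (fun i => if m.testBit (4 + i.val) then 1 else 0)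

/-- The mask of a vector. -/
def encV (a : Idx → ZMod 2) : ℕ :=
  (a (Sum.inl 0)).val + 2 * (a (Sum.inl 1)).val + 4 * (a (Sum.inl 2)).val + 8 * (a (Sum.inl 3)).val +
    16 * (a (Sum.inr 0)).val + 32 * (a (Sum.inr 1)).val + 64 * (a (Sum.inr 2)).val + 128 * (a (Sum.inr 3)).val

theorem enc_ok : ∀ a : Idx → ZMod 2, encV a < 256 ∧ dec (encV a) = a := by decide +kernel

theorem enc_dec : ∀ m < 256, encV (dec m) = m := by decide +kernel

theorem dec_zero : dec 0 = 0 := by
  funext x; cases x <;> simp [dec]

theorem dec_xor (m n : ℕ) : dec (m ^^^ n) = dec m + dec n := by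
  funext x
  rcases x with i | i <;> simp only [dec, Sum.elim_inl, Sum.elim_inr, Pi.add_apply, Nat.testBit_xor]
  · cases m.testBit i.val <;> cases n.testBit i.val <;> decide
  · cases m.testBit (4 + i.val) <;> cases n.testBit (4 + i.val) <;> decide

/-- Images of the simple roots. -/
def rootImg : List ℕ := [201, 21, 69, 202, 168, 77, 199, 53]

/-- The action on masks. -/
def gN (m : ℕ) : ℕ := comb gBarRows m

theorem red_roots : ∀ i : Fin 8,
    red (fun p => (evalW gWord (toL (ofO (rootsB.getD i.val [])))).getD (idx p) 0) = dec (rootImg.getD i.val 0) := by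
  decide +kernel

theorem redMap_root (i : Fin 8) :
    red ((gE • bB i : leechLattice) : GolayPt → ℤ) = dec (rootImg.getD i.val 0) := by
  rw [← red_roots i]
  congr 1
  funext p
  rw [show ofO (rootsB.getD i.val []) = (bB i : GolayPt → ℤ) from rfl, ← toL_wordElt words_lt.1]
  exact (toL_getD_idx _ p).symm

theorem red_zero' : red ((0 : leechLattice) : GolayPt → ℤ) = 0 := by
  have h := red_add (v := (0 : leechLattice)) (w := 0) (zero_mem _) (zero_mem _)
  rw [add_zero] at h
  exact left_eq_add.1 h

theorem red_sum {ι : Type} (s : Finset ι) (f : ι → leechLattice) (hf : ∀ i ∈ s, f i ∈ minusPart) :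
    red ((∑ i ∈ s, f i : leechLattice) : GolayPt → ℤ) = ∑ i ∈ s, red (f i : GolayPt → ℤ) := by
  classical
  induction s using Finset.induction_on with
  | empty => rw [Finset.sum_empty, Finset.sum_empty]; exact red_zero'
  | insert a s has ih =>
    rw [Finset.sum_insert has, Finset.sum_insert has,
      red_add (hf a (Finset.mem_insert_self a s)) (sum_mem fun i hi => hf i (Finset.mem_insert_of_mem hi)),
      ih fun i hi => hf i (Finset.mem_insert_of_mem hi)]

theorem redMap_formula (a : Idx → ZMod 2) :
    redMap gC a = ∑ i : Fin 8, cVec a i • dec (rootImg.getD i.val 0) := by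
  show red (((gE • lift a : leechLattice)) : GolayPt → ℤ) = _
  rw [lift, Leech.smul_sum', red_sum]
  · refine Finset.sum_congr rfl fun i _ => ?_
    rw [Leech.smul_zsmul']
    rcases Co1Cent.two_cases (cVec a i) with h | h <;> rw [h]
    · rw [show (((0 : ZMod 2).val : ℕ) : ℤ) = 0 from rfl, zero_smul, zero_smul]; exact red_zero'
    · rw [show (((1 : ZMod 2).val : ℕ) : ℤ) = 1 from rfl, one_smul, one_smul]; exact redMap_root i
  · intro i _
    exact smul_mem_minusPart gE_mem_c0 (zsmul_mem (bB_mem i) _)

theorem gN_check : ∀ m < 256, (∑ i : Fin 8, cVec (dec m) i • dec (rootImg.getD i.val 0)) = dec (gN m) := by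
  decide +kernel

theorem redMap_dec (m : ℕ) (hm : m < 256) : redMap gC (dec m) = dec (gN m) :=
  (redMap_formula _).trans (gN_check m hm)

/-- The form on masks. -/
def qN (m : ℕ) : Bool :=
  Bool.xor (Bool.xor (m.testBit 0 && m.testBit 4) (m.testBit 1 && m.testBit 5))
    (Bool.xor (m.testBit 2 && m.testBit 6) (m.testBit 3 && m.testBit 7))

theorem qN_check : ∀ m < 256, decide (q2 (dec m) = 1) = qN m := by decide +kernel

theorem gN_lt : ∀ m < 256, gN m < 256 := by decide +kernel

/-- A power of the action on a mask. -/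
def pN : ℕ → ℕ → ℕ
  | 0, m => m
  | i + 1, m => gN (pN i m)

/-- The conditions on the image of the first vector. -/
def ok1 (w : ℕ) : Bool :=
  qN w && qN (w ^^^ pN 1 w) && !qN (w ^^^ pN 2 w)

/-- The conditions on the image of the second vector. -/
def ok2 (w1 w : ℕ) : Bool :=
  !qN w && qN (w ^^^ pN 1 w) && qN (w ^^^ pN 2 w) && !qN (w ^^^ pN 0 w1) && qN (w ^^^ pN 1 w1) &&
    !qN (w ^^^ pN 2 w1) && qN (w ^^^ pN 3 w1)

/-- The candidates. -/
def cands : List (ℕ × ℕ) :=
  ((List.range 256).filter ok1).flatMap fun w1 => ((List.range 256).filter (ok2 w1)).map fun w => (w1, w)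

theorem cands_len : cands.length ≤ 300 := by decide +kernel

theorem ok_start : ok1 17 = true ∧ ok2 17 1 = true := by decide +kernel

/-- A basis adapted to the element. -/
def pwList : List ℕ := [17, 43, 147, 142, 1, 123, 179, 246]

theorem pw_spec : ∀ i < 4, pwList.getD i 0 = pN i 17 ∧ pwList.getD (4 + i) 0 = pN i 1 := by decide +kernel

theorem pw_span : ∀ m < 256, ∃ c ∈ List.range 256, comb pwList c = m := by decide +kernel

theorem pN_lt : ∀ (i : ℕ) {m : ℕ}, m < 256 → pN i m < 256
  | 0, _, h => h
  | i + 1, _, h => gN_lt _ (pN_lt i h)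

theorem card_image_le :
    Nat.card (Subgroup.centralizer ({rho gC} : Set OPlus)) ≤ 300 := by
  classical
  let val : Subgroup.centralizer ({rho gC} : Set OPlus) → (Idx → ZMod 2) → (Idx → ZMod 2) := fun e a => e.1.1 a
  have hadd : ∀ e a b, val e (a + b) = val e a + val e b := fun e a b => map_add e.1.1 a b
  have hcomm : ∀ e m, m < 256 → val e (dec (gN m)) = dec (gN (encV (val e (dec m)))) := by
    intro e m hm
    have h := congrArg (fun f : OPlus => f.1 (dec m)) (Subgroup.mem_centralizer_singleton_iff.1 e.2)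
    change e.1.1 (redMap gC (dec m)) = redMap gC (e.1.1 (dec m)) at h
    rw [redMap_dec m hm] at h
    refine h.trans ?_
    conv_lhs => rw [← (enc_ok (e.1.1 (dec m))).2]
    exact redMap_dec _ (enc_ok _).1
  have hq : ∀ e a, q2 (val e a) = q2 a := fun e a => by
    have h := e.1.2 a
    simp only [Quad.plusQ_coe] at h
    exact h
  have hpow : ∀ e i m, m < 256 → val e (dec (pN i m)) = dec (pN i (encV (val e (dec m)))) := by
    intro e i m hm
    induction i with
    | zero => exact ((enc_ok _).2).symm
    | succ i ih => rw [pN, hcomm e _ (pN_lt i hm), ih, enc_dec _ (pN_lt i (enc_ok _).1)]; rfl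
  have hqq : ∀ e i m n, m < 256 → n < 256 →
      qN (encV (val e (dec m)) ^^^ pN i (encV (val e (dec n)))) = qN (m ^^^ pN i n) := by
    intro e i m n hm hn
    rw [← qN_check _ (Nat.xor_lt_two_pow (n := 8) hm (pN_lt i hn)),
      ← qN_check _ (Nat.xor_lt_two_pow (n := 8) (enc_ok _).1 (pN_lt i (enc_ok _).1)), dec_xor, dec_xor,
      (enc_ok _).2, ← hpow e i n hn, ← hadd, hq]
  have hq1 : ∀ e m, m < 256 → qN (encV (val e (dec m))) = qN m := by
    intro e m hm
    rw [← qN_check _ hm, ← qN_check _ (enc_ok _).1, (enc_ok _).2, hq]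
  let f : Subgroup.centralizer ({rho gC} : Set OPlus) → cands.toFinset := fun e =>
    ⟨(encV (val e (dec 17)), encV (val e (dec 1))), by
      rw [List.mem_toFinset, cands, List.mem_flatMap]
      obtain ⟨hs1, hs2⟩ := ok_start
      refine ⟨_, List.mem_filter.2 ⟨List.mem_range.2 (enc_ok _).1, ?_⟩,
        List.mem_map.2 ⟨_, List.mem_filter.2 ⟨List.mem_range.2 (enc_ok _).1, ?_⟩, rfl⟩⟩
      · rw [← hs1]
        simp only [ok1, hq1 e 17 (by norm_num), hqq e _ 17 17 (by norm_num) (by norm_num)]
      · rw [← hs2]
        simp only [ok2, hq1 e 1 (by norm_num), hqq e _ 1 1 (by norm_num) (by norm_num),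
          hqq e _ 1 17 (by norm_num) (by norm_num)]⟩
  have hf : Function.Injective f := by
    intro e e' h
    have h1 : encV (val e (dec 17)) = encV (val e' (dec 17)) ∧ encV (val e (dec 1)) = encV (val e' (dec 1)) :=
      Prod.ext_iff.1 (congrArg Subtype.val h)
    have hbase : ∀ m ∈ pwList, val e (dec m) = val e' (dec m) := by
      intro m hm
      obtain ⟨k, hk, rfl⟩ := List.getElem_of_mem hm
      have hk8 : k < 8 := by simpa [pwList] using hk
      rw [← List.getD_eq_getElem pwList 0 hk]
      rcases lt_or_ge k 4 with h4 | h4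
      · rw [(pw_spec k h4).1, hpow e k 17 (by norm_num), hpow e' k 17 (by norm_num), h1.1]
      · rw [show k = 4 + (k - 4) by omega, (pw_spec (k - 4) (by omega)).2, hpow e _ 1 (by norm_num),
          hpow e' _ 1 (by norm_num), h1.2]
    have hcomb : ∀ (L : List ℕ), (∀ m ∈ L, val e (dec m) = val e' (dec m)) → ∀ c,
        val e (dec (comb L c)) = val e' (dec (comb L c)) := by
      intro L
      induction L with
      | nil =>
        intro _ c
        rw [show comb ([] : List ℕ) c = 0 from rfl, dec_zero]
        exact (map_zero e.1.1).trans (map_zero e'.1.1).symm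
      | cons r L ih =>
        intro hL c
        rw [show comb (r :: L) c = (if c % 2 = 1 then r else 0) ^^^ comb L (c / 2) from rfl, dec_xor, hadd, hadd,
          ih (fun m hm => hL m (List.mem_cons.2 (Or.inr hm)))]
        congr 1
        split_ifs
        · exact hL r (List.mem_cons.2 (Or.inl rfl))
        · rw [dec_zero]; exact (map_zero e.1.1).trans (map_zero e'.1.1).symm
    refine Subtype.ext (Subtype.ext (LinearEquiv.ext fun a => ?_))
    obtain ⟨c, -, hc⟩ := pw_span (encV a) (enc_ok a).1
    have := hcomb pwList hbase c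
    rwa [hc, (enc_ok a).2] at this
  refine (Nat.card_le_card_of_injective f hf).trans ?_
  rw [Nat.card_eq_fintype_card, Fintype.card_coe]
  exact (List.toFinset_card_le _).trans cands_len

/-! ### The kernel part -/

/-- A monomial map on packed coordinates. -/
noncomputable def monoN (c : ℕ) (L : List ℕ) (n : ℕ) : ℕ :=
  packF (fun i => cond (Nat.testBit (word c) i) (Nat.sub 256 (fld n (nthD (invL L) 0 i)))
    (fld n (nthD (invL L) 0 i))) posList

theorem monoN_ok {c : ℕ} {σ : M24} {w : golayCode} (hw : (w : GolayPt → ZMod 2) = vec (word c))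
    {v : leechLattice} (hv : Small (toL (v : GolayPt → ℤ))) :
    monoN c (toList (σ : Equiv.Perm GolayPt)) (encL (toL (v : GolayPt → ℤ))) =
      encL (toL ((Leech.monoAut (w, σ) • v : leechLattice) : GolayPt → ℤ)) := by
  show _ = packF off (toL ((Leech.monoAut (w, σ) • v : leechLattice) : GolayPt → ℤ))
  rw [monoN, packF_map, packF_map off]
  show _ = packF id (((List.range 24).map _).map off)
  rw [List.map_map, ← posList_eq]
  refine congrArg _ (List.map_congr_left fun i hi => ?_)
  have hi' : i < 24 := List.mem_range.1 (posList_eq ▸ hi)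
  have hsrc : (invL (toList (σ : Equiv.Perm GolayPt))).getD i 0 = idx ((σ : Equiv.Perm GolayPt)⁻¹ (pt i)) := by
    rw [← toList_inv, toList_getD _ hi']
  rw [nthD_eq, hsrc, fld_encL hv (idx_lt _), toL_getD_idx, Function.comp_apply, Leech.monoAut, mul_smul,
    Leech.signAut_apply]
  simp only [Leech.flipSign, hw, vec, idx_pt i hi', Leech.permHom_apply]
  have hb := hv.2 _ (List.mem_map.2 ⟨idx ((σ : Equiv.Perm GolayPt)⁻¹ (pt i)), List.mem_range.2 (idx_lt _), rfl⟩)
  rw [pt_idx] at hb
  cases (word c).testBit i
  · simp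
  · simp only [cond_true, if_true, off]
    show Nat.sub 256 _ = _
    rw [Nat.sub_eq]
    omega

/-- The pairs commuting with the element on one coordinate. -/
noncomputable def commPairs : List (ℕ × List ℕ) :=
  (offCodes ×ˢ fixList).filter fun x =>
    Nat.beq (monoN x.1 x.2 (evalN gWord (unitN 4))) (evalN gWord (monoN x.1 x.2 (unitN 4)))

theorem commPairs_len : commPairs.length ≤ 32 := by decide +kernel

theorem card_qp_comm : Nat.card {q : qp // (q : Co0) * gE = gE * q} ≤ 32 := by
  classical
  have hex : ∀ q : {q : qp // (q : Co0) * gE = gE * q}, ∃ x ∈ commPairs, ∃ (w : golayCode) (σ : M24),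
      (w : GolayPt → ZMod 2) = vec (word x.1) ∧ toList (σ : Equiv.Perm GolayPt) = x.2 ∧
      Leech.monoAut (w, σ) = (q.1 : Co0) := by
    intro q
    obtain ⟨w, σ, hw, hσ, he⟩ := mem_qp_iff.1 q.1.2
    obtain ⟨c, hc, hcw⟩ := exists_offCode hw
    refine ⟨(c, toList (σ : Equiv.Perm GolayPt)), List.mem_filter.2
      ⟨List.mem_product.2 ⟨hc, list_of_fixes hσ⟩, ?_⟩, w, σ, hcw, rfl, he⟩
    have e1 := monoN_ok (σ := σ) hcw (small_toL (norm_unit gE (pt 4)))
    have e2 := monoN_ok (σ := σ) hcw (small_toL (norm_unit 1 (pt 4)))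
    have e3 := evalN_gE (Leech.monoAut (w, σ)) (pt 4)
    have e4 := evalN_gE 1 (pt 4)
    rw [encL_unit (by norm_num), mul_one] at e4
    rw [encL_unit (by norm_num), ← mul_smul, mul_one] at e2
    show Nat.beq _ _ = true
    rw [e4, e1, e2, e3, ← mul_smul, he, q.2]
    exact Nat.beq_refl _
  choose f hf using hex
  let g : {q : qp // (q : Co0) * gE = gE * q} → commPairs.toFinset :=
    fun q => ⟨f q, List.mem_toFinset.2 (hf q).1⟩
  have hg : Function.Injective g := by
    intro a b h
    have hab : f a = f b := congrArg Subtype.val h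
    obtain ⟨-, w, σ, hw, hσ, ha⟩ := hf a
    obtain ⟨-, w', σ', hw', hσ', hb⟩ := hf b
    rw [hab] at hw hσ
    have hww : w = w' := Subtype.ext (hw.trans hw'.symm)
    have hss : σ = σ' := Subtype.ext (toList_injective (hσ.trans hσ'.symm))
    exact Subtype.ext (Subtype.ext (by rw [← ha, ← hb, hww, hss]))
  refine (Nat.card_le_card_of_injective g hg).trans ?_
  rw [Nat.card_eq_fintype_card, Fintype.card_coe]
  exact (List.toFinset_card_le _).trans commPairs_len

/-- The centraliser inside the centraliser of the sign change. -/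
noncomputable abbrev cG : Subgroup c0 := Subgroup.centralizer ({gC} : Set c0)

theorem card_cG : Nat.card cG ≤ 19200 := by
  haveI : Finite c0 := Nat.finite_of_card_ne_zero (by rw [card_c0]; norm_num)
  haveI : Finite OPlus := by
    refine Nat.finite_of_card_ne_zero ?_
    rw [← (commutator OPlus).card_mul_index, OmegaEight.card_omega (F := ZMod 2) Co1Cent.two_cases,
      Quad.index_commutator_char_two (Quad.plusQ_nondeg 4) (by simp) (Or.inr (by simp))]
    norm_num
  let ψ : cG →* OPlus := rho.comp cG.subtype
  have hr : Nat.card ψ.range ≤ 300 := by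
    refine le_trans (Nat.card_mono (Set.toFinite _) (s := (ψ.range : Set OPlus))
      (t := ((Subgroup.centralizer ({rho gC} : Set OPlus) : Subgroup OPlus) : Set OPlus)) ?_) card_image_le
    rintro _ ⟨x, rfl⟩
    refine Subgroup.mem_centralizer_singleton_iff.2 ?_
    show rho x.1 * rho gC = rho gC * rho x.1
    rw [← map_mul, ← map_mul, Subgroup.mem_centralizer_singleton_iff.1 x.2]
  have hk : Nat.card ψ.ker ≤ 64 := by
    haveI := finite_qp
    have hc : ∀ {x : cG}, ((x.1 : c0) : Co0) * gE = gE * ((x.1 : c0) : Co0) := fun {x} =>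
      congrArg Subtype.val (Subgroup.mem_centralizer_singleton_iff.1 x.2)
    have hoct : octFlip * gE = gE * octFlip := by rw [← tE_zero]; exact tE_comm (by norm_num)
    let Sq : Type := {q : qp // (q : Co0) * gE = gE * q}
    have hex : ∀ x : ψ.ker, ∃ s : Sq ⊕ Sq,
        Sum.elim (fun q : Sq => (q.1 : Co0)) (fun q : Sq => octFlip * (q.1 : Co0)) s = ((x.1.1 : c0) : Co0) := by
      intro x
      rcases (ker_rho_iff x.1.1).1 (MonoidHom.mem_ker.2 (MonoidHom.mem_ker.1 x.2)) with h | h
      · exact ⟨Sum.inl ⟨⟨_, h⟩, hc⟩, rfl⟩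
      · refine ⟨Sum.inr ⟨⟨_, h⟩, ?_⟩, ?_⟩
        · show octFlip * _ * gE = gE * (octFlip * _)
          rw [mul_assoc, hc, ← mul_assoc, hoct, mul_assoc]
        · show octFlip * (octFlip * _) = _
          rw [← mul_assoc, octFlip, Leech.signAut_mul, add_self_code, Leech.signAut_zero, one_mul]
    choose s hs using hex
    have hsi : Function.Injective s := fun a b h =>
      Subtype.ext (Subtype.ext (Subtype.ext (by rw [← hs a, ← hs b, h])))
    refine (Nat.card_le_card_of_injective s hsi).trans ?_
    rw [Nat.card_sum]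
    have h32 : Nat.card Sq ≤ 32 := card_qp_comm
    omega
  rw [← ψ.ker.card_mul_index, Subgroup.index_ker]
  exact (Nat.mul_le_mul hk hr).trans (by norm_num)

end CfsgLib.CoFive
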