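import Mathlib.Data.List.Range

/-!
# Certificates for an element of order five in Conway's group and its centraliser
-/

set_option autoImplicit false

namespace CfsgLib.CoFive

/-- Permutations preserving the code, with their inverses. -/
def permLists : List (List Nat) := [
  [1,2,3,4,5,6,7,8,9,10,11,12,13,14,15,16,17,18,19,20,21,22,0,23],
  [23,22,11,15,17,9,19,13,20,5,16,2,21,7,18,3,10,4,14,6,8,12,1,0],
  [0,18,6,3,2,21,1,5,16,12,7,19,8,9,17,15,13,11,4,22,10,20,14,23],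
  [0,3,17,14,22,5,18,15,4,10,11,13,19,16,1,20,21,23,6,12,8,9,7,2],
  [17,23,1,2,20,14,8,11,16,4,13,19,6,18,0,7,12,5,22,15,21,9,10,3],
  [0,1,2,3,6,5,4,22,20,12,11,10,9,19,14,18,21,17,15,13,8,16,7,23],
  [0,1,2,3,7,5,22,4,15,11,12,9,10,21,14,8,19,17,20,16,18,13,6,23],
  [0,1,2,3,8,5,20,15,4,21,19,13,16,11,14,7,12,17,22,10,6,9,18,23],
  [22,0,1,2,3,4,5,6,7,8,9,10,11,12,13,14,15,16,17,18,19,20,21,23],
  [23,22,11,15,17,9,19,13,20,5,16,2,21,7,18,3,10,4,14,6,8,12,1,0],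
  [0,6,4,3,18,7,2,10,12,13,20,17,9,16,22,15,8,14,1,11,21,5,19,23],
  [0,14,23,1,8,5,18,22,20,21,9,10,19,11,3,7,13,2,6,12,15,16,4,17],
  [14,2,3,23,9,17,12,15,6,21,22,7,16,10,5,19,8,0,13,11,4,20,18,1],
  [0,1,2,3,6,5,4,22,20,12,11,10,9,19,14,18,21,17,15,13,8,16,7,23],
  [0,1,2,3,7,5,22,4,15,11,12,9,10,21,14,8,19,17,20,16,18,13,6,23],
  [0,1,2,3,8,5,20,15,4,21,19,13,16,11,14,7,12,17,22,10,6,9,18,23]]

/-- Their inverse lists. -/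
def srcLists : List (List Nat) := [
  [22,0,1,2,3,4,5,6,7,8,9,10,11,12,13,14,15,16,17,18,19,20,21,23],
  [23,22,11,15,17,9,19,13,20,5,16,2,21,7,18,3,10,4,14,6,8,12,1,0],
  [0,6,4,3,18,7,2,10,12,13,20,17,9,16,22,15,8,14,1,11,21,5,19,23],
  [0,14,23,1,8,5,18,22,20,21,9,10,19,11,3,7,13,2,6,12,15,16,4,17],
  [14,2,3,23,9,17,12,15,6,21,22,7,16,10,5,19,8,0,13,11,4,20,18,1],
  [0,1,2,3,6,5,4,22,20,12,11,10,9,19,14,18,21,17,15,13,8,16,7,23],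
  [0,1,2,3,7,5,22,4,15,11,12,9,10,21,14,8,19,17,20,16,18,13,6,23],
  [0,1,2,3,8,5,20,15,4,21,19,13,16,11,14,7,12,17,22,10,6,9,18,23],
  [1,2,3,4,5,6,7,8,9,10,11,12,13,14,15,16,17,18,19,20,21,22,0,23],
  [23,22,11,15,17,9,19,13,20,5,16,2,21,7,18,3,10,4,14,6,8,12,1,0],
  [0,18,6,3,2,21,1,5,16,12,7,19,8,9,17,15,13,11,4,22,10,20,14,23],
  [0,3,17,14,22,5,18,15,4,10,11,13,19,16,1,20,21,23,6,12,8,9,7,2],
  [17,23,1,2,20,14,8,11,16,4,13,19,6,18,0,7,12,5,22,15,21,9,10,3],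
  [0,1,2,3,6,5,4,22,20,12,11,10,9,19,14,18,21,17,15,13,8,16,7,23],
  [0,1,2,3,7,5,22,4,15,11,12,9,10,21,14,8,19,17,20,16,18,13,6,23],
  [0,1,2,3,8,5,20,15,4,21,19,13,16,11,14,7,12,17,22,10,6,9,18,23]]

/-- The basic sign changes. -/
def signMasks : List Nat := [13062145,4845570,13938692,7221256,10170384,11952160,15515712,2019456,4038912,8077824,11654144,14919680]

/-- A word for the element of order five. -/
def gWord : List Nat := [4,17,27,28,22,4,17,27,28,22]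

/-- A word for the sign change on the octad. -/
def zWord : List Nat := [16,17,18,19,21]

/-- Words for five involutions in the centraliser. -/
def tWords : List (List Nat) := [
  [16,17,18,19,21],
  [10,21,18,28,28,28,24,10,18,17,16,2,28,23,0,8,18,28,22,19,24,18,28,22,28,28,25,28,26,24,28,20,9,26,9,27,28,0,10,9,28,18,28,18,1,28,16,17,18,19,21,28,9,18,28,18,28,1,2,8,28,27,1,26,1,20,28,24,26,28,25,28,28,22,28,18,24,19,22,28,18,0,8,23,28,10,16,17,18,2,24,28,28,28,18,21,2],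
  [23,28,28,26,20,2,28,28,28,20,28,10,28,2,27,0,28,21,26,2,28,26,18,28,2,20,28,28,28,2,28,28,10,25,28,22,28,28,19,16,17,18,19,21,19,28,28,22,28,25,2,28,28,10,28,28,28,20,10,28,18,26,28,10,26,21,28,8,27,10,28,2,28,20,28,28,28,10,20,26,28,28,23],
  [10,21,18,28,28,28,24,10,18,17,16,2,28,23,0,8,18,28,22,19,24,18,28,22,28,28,25,28,26,24,28,20,9,26,9,27,28,0,10,9,28,18,28,18,1,28,23,28,28,26,20,2,28,28,28,20,28,10,28,2,27,0,28,21,26,2,28,26,18,28,2,20,28,28,28,2,28,28,10,25,28,22,28,28,19,23,28,28,26,20,2,28,28,28,20,28,10,28,2,27,0,28,21,26,2,28,26,18,28,2,20,28,28,28,2,28,28,10,25,28,22,28,28,19,16,17,18,19,21,19,28,28,22,28,25,2,28,28,10,28,28,28,20,10,28,18,26,28,10,26,21,28,8,27,10,28,2,28,20,28,28,28,10,20,26,28,28,23,19,28,28,22,28,25,2,28,28,10,28,28,28,20,10,28,18,26,28,10,26,21,28,8,27,10,28,2,28,20,28,28,28,10,20,26,28,28,23,28,9,18,28,18,28,1,2,8,28,27,1,26,1,20,28,24,26,28,25,28,28,22,28,18,24,19,22,28,18,0,8,23,28,10,16,17,18,2,24,28,28,28,18,21,2],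
  [1,8,1,24,25,8,9,2,8,24,16,17,18,16,28,28,28,28,26,10,18,28,28,22,28,26,23,1,19,28,28,19,23,17,9,28,21,28,28,22,21,19,28,16,28,28,28,22,10,28,22,9,25,28,22,28,28,28,28,1,28,28,20,2,8,1,9,19,21,28,0,28,28,9,28,17,9,22,8,22,9,23,28,26,1,16,10,25,27,16,24,18,28,1,9,16,17,18,19,21,1,9,28,18,24,16,27,25,2,16,9,26,28,23,1,22,0,22,1,17,28,1,28,28,8,28,21,19,1,9,0,10,20,28,28,9,28,28,28,28,22,28,25,1,22,28,2,22,28,28,28,16,28,19,21,22,28,28,21,28,1,17,23,19,28,28,19,9,23,26,28,22,28,28,18,2,26,28,28,28,28,16,18,17,16,24,0,10,1,0,25,24,9,0,9]]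

/-- The nonzero matrix entries of these involutions, by rows. -/
def tRows : List (List (List (Nat × Int))) := [
  [[(0,-8)],
   [(1,-8)],
   [(2,-8)],
   [(3,-8)],
   [(4,8)],
   [(5,-8)],
   [(6,8)],
   [(7,8)],
   [(8,8)],
   [(9,8)],
   [(10,8)],
   [(11,8)],
   [(12,8)],
   [(13,8)],
   [(14,-8)],
   [(15,8)],
   [(16,8)],
   [(17,-8)],
   [(18,8)],
   [(19,8)],
   [(20,8)],
   [(21,8)],
   [(22,8)],
   [(23,-8)]],
  [[(0,8)],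
   [(1,8)],
   [(2,8)],
   [(3,8)],
   [(4,8)],
   [(5,8)],
   [(6,8)],
   [(7,8)],
   [(8,-8)],
   [(9,-8)],
   [(10,-8)],
   [(11,-8)],
   [(12,-8)],
   [(13,8)],
   [(14,8)],
   [(15,-8)],
   [(16,8)],
   [(17,8)],
   [(18,-8)],
   [(19,8)],
   [(20,-8)],
   [(21,8)],
   [(22,8)],
   [(23,8)]],
  [[(0,4),(4,-2),(6,-2),(7,2),(12,4),(13,-2),(16,-2),(19,2),(21,2),(22,2)],
   [(1,4),(4,-2),(6,2),(7,-2),(8,4),(13,-2),(16,2),(19,2),(21,2),(22,-2)],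
   [(2,4),(4,-2),(6,-2),(7,-2),(13,2),(16,2),(18,4),(19,-2),(21,2),(22,2)],
   [(3,4),(4,2),(6,-2),(7,2),(9,4),(13,-2),(16,2),(19,-2),(21,2),(22,-2)],
   [(0,-2),(1,-2),(2,-2),(3,2),(5,2),(8,2),(9,-2),(10,2),(11,2),(12,2),(14,-2),(15,-2),(17,2),(18,2),(20,-2),(23,-2)],
   [(4,2),(5,4),(6,2),(7,-2),(13,-2),(16,-2),(19,-2),(20,4),(21,2),(22,2)],
   [(0,-2),(1,2),(2,-2),(3,-2),(5,2),(8,-2),(9,2),(10,2),(11,-2),(12,2),(14,-2),(15,2),(17,-2),(18,2),(20,-2),(23,2)],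
   [(0,2),(1,-2),(2,-2),(3,2),(5,-2),(8,2),(9,-2),(10,2),(11,-2),(12,-2),(14,-2),(15,2),(17,-2),(18,2),(20,2),(23,2)],
   [(1,4),(4,2),(6,-2),(7,2),(8,4),(13,2),(16,-2),(19,-2),(21,-2),(22,2)],
   [(3,4),(4,-2),(6,2),(7,-2),(9,4),(13,2),(16,-2),(19,2),(21,-2),(22,2)],
   [(4,2),(6,2),(7,2),(10,4),(13,2),(14,4),(16,2),(19,2),(21,2),(22,2)],
   [(4,2),(6,-2),(7,-2),(11,4),(13,-2),(16,2),(19,2),(21,-2),(22,2),(23,4)],
   [(0,4),(4,2),(6,2),(7,-2),(12,4),(13,2),(16,2),(19,-2),(21,-2),(22,-2)],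
   [(0,-2),(1,-2),(2,2),(3,-2),(5,-2),(8,2),(9,2),(10,2),(11,-2),(12,2),(14,-2),(15,-2),(17,2),(18,-2),(20,2),(23,2)],
   [(4,-2),(6,-2),(7,-2),(10,4),(13,-2),(14,4),(16,-2),(19,-2),(21,-2),(22,-2)],
   [(4,-2),(6,2),(7,2),(13,-2),(15,4),(16,2),(17,4),(19,-2),(21,-2),(22,2)],
   [(0,-2),(1,2),(2,2),(3,2),(5,-2),(8,-2),(9,-2),(10,2),(11,2),(12,2),(14,-2),(15,2),(17,-2),(18,-2),(20,2),(23,-2)],
   [(4,2),(6,-2),(7,-2),(13,2),(15,4),(16,-2),(17,4),(19,2),(21,2),(22,-2)],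
   [(2,4),(4,2),(6,2),(7,2),(13,-2),(16,-2),(18,4),(19,2),(21,-2),(22,-2)],
   [(0,2),(1,2),(2,-2),(3,-2),(5,-2),(8,-2),(9,2),(10,2),(11,2),(12,-2),(14,-2),(15,-2),(17,2),(18,2),(20,2),(23,-2)],
   [(4,-2),(5,4),(6,-2),(7,2),(13,2),(16,2),(19,2),(20,4),(21,-2),(22,-2)],
   [(0,2),(1,2),(2,2),(3,2),(5,2),(8,-2),(9,-2),(10,2),(11,-2),(12,-2),(14,-2),(15,-2),(17,2),(18,-2),(20,-2),(23,2)],
   [(0,2),(1,-2),(2,2),(3,-2),(5,2),(8,2),(9,2),(10,2),(11,2),(12,-2),(14,-2),(15,2),(17,-2),(18,-2),(20,-2),(23,-2)],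
   [(4,-2),(6,2),(7,2),(11,4),(13,2),(16,-2),(19,-2),(21,2),(22,-2),(23,4)]],
  [[(0,4),(4,-2),(6,2),(7,2),(13,-2),(15,4),(16,2),(19,-2),(21,2),(22,-2)],
   [(1,4),(4,-2),(6,2),(7,-2),(10,-4),(13,2),(16,-2),(19,-2),(21,-2),(22,-2)],
   [(2,4),(4,2),(6,-2),(7,-2),(9,-4),(13,-2),(16,-2),(19,-2),(21,2),(22,-2)],
   [(3,4),(4,2),(6,2),(7,-2),(13,-2),(16,2),(18,4),(19,2),(21,-2),(22,-2)],
   [(0,-2),(1,-2),(2,2),(3,2),(5,2),(8,-2),(9,2),(10,-2),(11,2),(12,-2),(14,2),(15,2),(17,-2),(18,-2),(20,-2),(23,2)],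
   [(4,2),(5,4),(6,2),(7,2),(11,-4),(13,2),(16,-2),(19,2),(21,2),(22,-2)],
   [(0,2),(1,2),(2,-2),(3,2),(5,2),(8,-2),(9,-2),(10,2),(11,2),(12,-2),(14,2),(15,-2),(17,-2),(18,-2),(20,2),(23,-2)],
   [(0,2),(1,-2),(2,-2),(3,-2),(5,2),(8,-2),(9,-2),(10,-2),(11,2),(12,2),(14,2),(15,-2),(17,2),(18,2),(20,-2),(23,2)],
   [(4,-2),(6,-2),(7,-2),(8,4),(13,2),(14,4),(16,2),(19,2),(21,2),(22,-2)],
   [(2,-4),(4,2),(6,-2),(7,-2),(9,4),(13,-2),(16,-2),(19,-2),(21,2),(22,-2)],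
   [(1,-4),(4,-2),(6,2),(7,-2),(10,4),(13,2),(16,-2),(19,-2),(21,-2),(22,-2)],
   [(4,2),(5,-4),(6,2),(7,2),(11,4),(13,2),(16,-2),(19,2),(21,2),(22,-2)],
   [(4,-2),(6,-2),(7,2),(12,4),(13,-2),(16,-2),(17,-4),(19,2),(21,-2),(22,-2)],
   [(0,-2),(1,2),(2,-2),(3,-2),(5,2),(8,2),(9,-2),(10,2),(11,2),(12,-2),(14,-2),(15,2),(17,-2),(18,2),(20,-2),(23,2)],
   [(4,2),(6,2),(7,2),(8,4),(13,-2),(14,4),(16,-2),(19,-2),(21,-2),(22,2)],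
   [(0,4),(4,2),(6,-2),(7,-2),(13,2),(15,4),(16,-2),(19,2),(21,-2),(22,2)],
   [(0,2),(1,-2),(2,-2),(3,2),(5,-2),(8,2),(9,-2),(10,-2),(11,-2),(12,-2),(14,-2),(15,-2),(17,-2),(18,-2),(20,-2),(23,2)],
   [(4,-2),(6,-2),(7,2),(12,-4),(13,-2),(16,-2),(17,4),(19,2),(21,-2),(22,-2)],
   [(3,4),(4,-2),(6,-2),(7,2),(13,2),(16,-2),(18,4),(19,-2),(21,2),(22,2)],
   [(0,-2),(1,-2),(2,-2),(3,2),(5,2),(8,2),(9,-2),(10,-2),(11,2),(12,2),(14,-2),(15,2),(17,2),(18,-2),(20,2),(23,-2)],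
   [(4,-2),(6,2),(7,-2),(13,-2),(16,-2),(19,2),(20,4),(21,2),(22,2),(23,4)],
   [(0,2),(1,-2),(2,2),(3,-2),(5,2),(8,2),(9,2),(10,-2),(11,2),(12,-2),(14,-2),(15,-2),(17,-2),(18,2),(20,2),(23,-2)],
   [(0,-2),(1,-2),(2,-2),(3,-2),(5,-2),(8,-2),(9,-2),(10,-2),(11,-2),(12,-2),(14,2),(15,2),(17,-2),(18,2),(20,2),(23,-2)],
   [(4,2),(6,-2),(7,2),(13,2),(16,2),(19,-2),(20,4),(21,-2),(22,-2),(23,4)]],
  [[(0,4),(4,2),(6,-2),(7,-2),(13,-2),(16,2),(18,-4),(19,-2),(21,-2),(22,-2)],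
   [(1,4),(4,2),(6,-2),(7,-2),(11,4),(13,-2),(16,-2),(19,2),(21,2),(22,2)],
   [(2,4),(4,2),(6,-2),(7,2),(12,4),(13,2),(16,-2),(19,2),(21,-2),(22,-2)],
   [(3,4),(4,2),(6,2),(7,-2),(13,2),(15,4),(16,-2),(19,-2),(21,-2),(22,2)],
   [(0,2),(1,2),(2,2),(3,2),(5,-2),(8,-2),(9,2),(10,-2),(11,-2),(12,-2),(14,-2),(15,-2),(17,2),(18,2),(20,2),(23,-2)],
   [(4,-2),(5,4),(6,-2),(7,2),(10,-4),(13,-2),(16,-2),(19,-2),(21,-2),(22,2)],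
   [(0,-2),(1,-2),(2,-2),(3,2),(5,-2),(8,2),(9,2),(10,-2),(11,2),(12,2),(14,-2),(15,-2),(17,2),(18,-2),(20,2),(23,2)],
   [(0,-2),(1,-2),(2,2),(3,-2),(5,2),(8,-2),(9,2),(10,2),(11,2),(12,-2),(14,-2),(15,2),(17,2),(18,-2),(20,2),(23,-2)],
   [(4,-2),(6,2),(7,-2),(8,4),(13,-2),(16,-2),(19,2),(21,-2),(22,-2),(23,-4)],
   [(4,2),(6,2),(7,2),(9,4),(13,-2),(16,2),(17,-4),(19,2),(21,-2),(22,2)],
   [(4,-2),(5,-4),(6,-2),(7,2),(10,4),(13,-2),(16,-2),(19,-2),(21,-2),(22,2)],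
   [(1,4),(4,-2),(6,2),(7,2),(11,4),(13,2),(16,2),(19,-2),(21,-2),(22,-2)],
   [(2,4),(4,-2),(6,2),(7,-2),(12,4),(13,-2),(16,2),(19,-2),(21,2),(22,2)],
   [(0,-2),(1,-2),(2,2),(3,2),(5,-2),(8,-2),(9,-2),(10,-2),(11,2),(12,-2),(14,2),(15,-2),(17,-2),(18,-2),(20,-2),(23,-2)],
   [(4,-2),(6,-2),(7,-2),(13,2),(14,4),(16,2),(19,2),(20,4),(21,-2),(22,2)],
   [(3,4),(4,-2),(6,-2),(7,2),(13,-2),(15,4),(16,2),(19,2),(21,2),(22,-2)],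
   [(0,2),(1,-2),(2,-2),(3,-2),(5,-2),(8,-2),(9,2),(10,-2),(11,2),(12,2),(14,2),(15,2),(17,2),(18,2),(20,-2),(23,-2)],
   [(4,2),(6,2),(7,2),(9,-4),(13,-2),(16,2),(17,4),(19,2),(21,-2),(22,2)],
   [(0,-4),(4,2),(6,-2),(7,-2),(13,-2),(16,2),(18,4),(19,-2),(21,-2),(22,-2)],
   [(0,-2),(1,2),(2,2),(3,-2),(5,-2),(8,2),(9,2),(10,-2),(11,-2),(12,-2),(14,2),(15,2),(17,2),(18,-2),(20,-2),(23,2)],
   [(4,2),(6,2),(7,2),(13,-2),(14,4),(16,-2),(19,-2),(20,4),(21,2),(22,-2)],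
   [(0,-2),(1,2),(2,-2),(3,-2),(5,-2),(8,-2),(9,-2),(10,-2),(11,-2),(12,2),(14,-2),(15,2),(17,-2),(18,-2),(20,2),(23,-2)],
   [(0,-2),(1,2),(2,-2),(3,2),(5,2),(8,-2),(9,2),(10,2),(11,-2),(12,2),(14,2),(15,-2),(17,2),(18,-2),(20,-2),(23,-2)],
   [(4,-2),(6,2),(7,-2),(8,-4),(13,-2),(16,-2),(19,2),(21,-2),(22,-2),(23,4)]]]

/-- Six coordinates generating over the ring of fifth roots of unity. -/
def qsBase : List Nat := [0,1,4,6,8,9]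

/-- Coefficients expressing the coordinates by the generators and their images. -/
def spanCoef : List (List Int) := [
  [1,0,0,0,0,0,0,0,0,0,0,0,0,0,0,0,0,0,0,0,0,0,0,0],
  [0,0,0,0,1,0,0,0,0,0,0,0,0,0,0,0,0,0,0,0,0,0,0,0],
  [1,1,1,0,0,-1,1,0,0,0,0,0,0,0,0,0,0,0,0,0,0,0,0,0],
  [0,0,0,1,1,0,0,1,0,0,0,0,0,0,0,0,0,0,0,0,0,0,0,0],
  [0,0,0,0,0,0,0,0,1,0,0,0,0,0,0,0,0,0,0,0,0,0,0,0],
  [-1,-2,-2,-1,0,0,0,-1,0,0,0,0,0,0,0,0,0,0,0,0,0,0,0,0],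
  [0,0,0,0,0,0,0,0,0,0,0,0,1,0,0,0,0,0,0,0,0,0,0,0],
  [0,0,0,0,0,0,0,0,0,-1,0,-1,1,1,0,1,0,0,0,0,0,0,0,0],
  [0,0,0,0,0,0,0,0,0,0,0,0,0,0,0,0,1,0,0,0,0,0,0,0],
  [0,0,0,0,0,0,0,0,0,0,0,0,0,0,0,0,0,0,0,0,1,0,0,0],
  [0,0,0,0,0,0,0,0,0,0,0,0,0,0,0,0,-1,-1,0,0,0,1,2,2],
  [0,0,0,0,0,0,0,0,0,0,0,0,0,0,0,0,0,1,1,0,1,1,1,0],
  [0,0,0,0,0,0,0,0,0,0,0,0,0,0,0,0,-1,0,-1,0,0,0,1,0],
  [0,0,0,0,0,0,0,0,0,0,-1,1,-1,0,-1,-1,0,0,0,0,0,0,0,0],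
  [1,1,-1,-1,0,1,1,1,0,0,0,0,0,0,0,0,0,0,0,0,0,0,0,0],
  [0,0,0,0,0,0,0,0,0,0,0,0,0,0,0,0,-1,-1,-1,-2,0,-1,-1,0],
  [0,0,0,0,0,0,0,0,-2,-1,-1,-2,1,-1,1,0,0,0,0,0,0,0,0,0],
  [0,1,1,1,-1,-1,-1,-1,0,0,0,0,0,0,0,0,0,0,0,0,0,0,0,0],
  [0,0,0,0,0,0,0,0,0,0,0,0,0,0,0,0,0,-1,0,0,-1,-1,0,0],
  [0,0,0,0,0,0,0,0,1,0,1,1,0,0,-1,1,0,0,0,0,0,0,0,0],
  [0,0,0,0,0,0,0,0,0,0,0,0,0,0,0,0,0,0,1,0,1,2,1,0],
  [0,0,0,0,0,0,0,0,-1,1,-1,0,-2,-1,-1,-2,0,0,0,0,0,0,0,0],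
  [0,0,0,0,0,0,0,0,1,1,0,1,0,1,0,1,0,0,0,0,0,0,0,0],
  [0,-1,-1,0,1,1,1,0,0,0,0,0,0,0,0,0,0,0,0,0,0,0,0,0]]

/-- The action modulo two, as images of the unit masks. -/
def gBarRows : List Nat := [123,208,194,64,80,120,112,117]

/-- A word squaring to minus one. -/
def xWord : List Nat := [1,2,4,3,1,2,4,3,1,2,4,3]

/-- The six coordinates under powers of the element, packed. -/
def gPows : List Nat := [
  3150858910311745638317572730080710985337652928985868304520,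
  3150858910311745986766737226309131711143765061101833716860,
  3150858910311745289868408233852290259531540792471789273216,
  3248938624927162873701650666859317359584850242936334482560,
  3150858910311745638317572730080710985337652928985868306560,
  3248938624927162525252506939818330773089252228407504961664,
  3248938624927162525252506939818330773089252232805619104892,
  3052779195696328402933494793302104611090455615035536342144,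
  3150858910311745638317572730080710985337652929020228042880,
  3151243530774638737376750476281128849500689171552239911040,
  3150475786426529164741853594510531139581568118672064544896,
  3150857413734069011472984570637080698470234266706617860224,
  3150858910311745638317572730080710985337655180785681989760,
  3150858910288909673873147904300024555973250807435643355264,
  3150857413711233048389689131410509708352359522852761796736,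
  3151242034219798074976587142618184991998246839775704154240,
  3150858910311745638317572730080710985485226881575544717440,
  3150858904465649886013166934774643432749249705712432480384,
  3150858910311834841298366852257602418119184576037777342592,
  3150858910311745638312255818096333400622431275653590450304,
  3150858910311745638317572730080711023116584791943030014080,
  3150858916157662984660390280401646214400943102410094575744,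
  3150858910311834841298366852891427718380873229375805358208,
  3150858904465649886013166934456497697245651365058637234304]

end CfsgLib.CoFive
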