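import Cfsg.Agent.CoFive.Data
import Cfsg.Agent.Co1Cent.Kernel
import Cfsg.Agent.Coset.Presented
import Cfsg.Agent.J2.Perm.Rels

/-!
# An element of order five and five involutions centralising it, as words in standard generators
-/

set_option autoImplicit false
set_option maxRecDepth 100000
set_option maxHeartbeats 1000000
set_option linter.style.haveILetI false

namespace CfsgLib.CoFive

open Cfsg CfsgLib CfsgLib.Golay CfsgLib.Golay.SylowCert
open CfsgLib.Coset (ev fl ev_cons ev_nil)

attribute [local irreducible] CfsgLib.Leech.shortVecs CfsgLib.Leech.halfTable CfsgLib.Leech.quarterTable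

/-! ### Coordinate lists -/

/-- The coordinates of a vector. -/
def toL (x : GolayPt → ℤ) : List ℤ := (List.range 24).map fun i => x (pt i)

theorem toL_getD (x : GolayPt → ℤ) {i : ℕ} (hi : i < 24) : (toL x).getD i 0 = x (pt i) := by
  rw [List.getD_eq_getElem _ _ (by simpa [toL] using hi)]
  simp [toL]

theorem toL_getD_idx (x : GolayPt → ℤ) (p : GolayPt) : (toL x).getD (idx p) 0 = x p := by
  rw [toL_getD x (idx_lt p), pt_idx]

theorem toL_injective : Function.Injective toL := fun x y h => funext fun p => by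
  rw [← toL_getD_idx x p, h, toL_getD_idx]

/-- Eight times a unit vector. -/
def unitL (q : ℕ) : List ℤ := (List.range 24).map fun i => if i = q then 8 else 0

theorem toL_eightAt (q : GolayPt) : toL (Leech.eightAt q : GolayPt → ℤ) = unitL (idx q) := by
  refine List.map_congr_left fun i hi => ?_
  rw [Leech.eightAt_apply]
  refine if_congr ⟨fun h => ?_, fun h => ?_⟩ rfl rfl
  · rw [← h, idx_pt i (List.mem_range.1 hi)]
  · rw [h, pt_idx]

/-- A field of a packed vector. -/
def fld (n j : ℕ) : ℕ := Nat.land (Nat.shiftRight n (Nat.mul 8 j)) 255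

/-- Pack values. -/
noncomputable def packF {α : Type} (f : α → ℕ) (l : List α) : ℕ :=
  List.rec (motive := fun _ => ℕ) 0 (fun a _ r => Nat.lor (f a) (Nat.shiftLeft r 8)) l

/-- An entry of a list. -/
noncomputable def nthD {α : Type} (l : List α) (d : α) (i : ℕ) : α :=
  List.rec (motive := fun _ => ℕ → α) (fun _ => d)
    (fun a _ r j => Bool.rec (r (Nat.sub j 1)) a (Nat.beq j 0)) l i

theorem nthD_eq {α : Type} : ∀ (l : List α) (d : α) (i : ℕ), nthD l d i = l.getD i d
  | [], _, _ => rfl
  | a :: l, d, i => by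
    show Bool.rec (motive := fun _ => α) (nthD l d (Nat.sub i 1)) a (Nat.beq i 0) = _
    rcases i with _ | i
    · rfl
    · show nthD l d i = _
      rw [nthD_eq l d i, List.getD_cons_succ]

theorem fld_packF {α : Type} (f : α → ℕ) : ∀ (l : List α), (∀ a ∈ l, f a < 256) → ∀ j < l.length,
    fld (packF f l) j = (l.map f).getD j 0
  | [], _, j, hj => absurd hj (Nat.not_lt_zero j)
  | a :: l, h, j, hj => by
    have ha : f a < 256 := h a (List.mem_cons.2 (Or.inl rfl))
    show (f a ||| packF f l <<< 8) >>> (8 * j) &&& 255 = _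
    rw [Nat.lor_comm, ← Nat.shiftLeft_add_eq_or_of_lt (show f a < 2 ^ 8 by norm_num; omega)]
    rcases j with _ | j
    · rw [Nat.mul_zero, Nat.shiftRight_zero, show (255 : ℕ) = 2 ^ 8 - 1 by norm_num,
        Nat.and_two_pow_sub_one_eq_mod, List.map_cons, List.getD_cons_zero, Nat.shiftLeft_eq]
      norm_num
      omega
    · rw [show 8 * (j + 1) = 8 + 8 * j by ring, Nat.shiftRight_add, Nat.shiftRight_eq_div_pow _ 8, Nat.shiftLeft_eq,
        show (packF f l * 2 ^ 8 + f a) / 2 ^ 8 = packF f l by norm_num; omega, List.map_cons, List.getD_cons_succ]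
      exact fld_packF f l (fun b hb => h b (List.mem_cons.2 (Or.inr hb))) j (by simpa using hj)

theorem packF_map {α : Type} (f : α → ℕ) : ∀ l : List α, packF f l = packF id (l.map f)
  | [] => rfl
  | a :: l => by
    show f a ||| packF f l <<< 8 = f a ||| packF id (l.map f) <<< 8
    rw [packF_map f l]

/-- An offset coordinate. -/
def off (a : ℤ) : ℕ := (a + 128).toNat

/-- Packed coordinates. -/
noncomputable def encL (l : List ℤ) : ℕ := packF off l

/-- Small entries. -/
def Small (l : List ℤ) : Prop := l.length = 24 ∧ ∀ a ∈ l, -8 ≤ a ∧ a ≤ 8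

theorem fld_encL {l : List ℤ} (hl : Small l) {j : ℕ} (hj : j < 24) : fld (encL l) j = off (l.getD j 0) := by
  rw [encL, fld_packF off l (fun a ha => by have := hl.2 a ha; simp only [off]; omega) j (hl.1 ▸ hj),
    List.getD_eq_getElem _ _ (by simpa [hl.1] using hj), List.getElem_map,
    List.getD_eq_getElem _ _ (by simpa [hl.1] using hj)]

theorem encL_inj {l m : List ℤ} (hl : Small l) (hm : Small m) (h : encL l = encL m) : l = m := by
  refine List.ext_getElem (hl.1.trans hm.1.symm) fun i h1 h2 => ?_
  have hi : i < 24 := hl.1 ▸ h1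
  have e := fld_encL hl hi
  rw [h, fld_encL hm hi, List.getD_eq_getElem _ _ h1, List.getD_eq_getElem _ _ h2] at e
  have b1 := hl.2 _ (List.getElem_mem h1); have b2 := hm.2 _ (List.getElem_mem h2)
  simp only [off] at e
  omega

theorem small_toL {v : leechLattice} (h : sqNorm (v : GolayPt → ℤ) = 64) : Small (toL (v : GolayPt → ℤ)) := by
  refine ⟨by simp [toL], fun a ha => ?_⟩
  obtain ⟨i, -, rfl⟩ := List.mem_map.1 ha
  have h1 : (v : GolayPt → ℤ) (pt i) ^ 2 ≤ 64 := h ▸
    Finset.single_le_sum (f := fun p => (v : GolayPt → ℤ) p ^ 2) (fun p _ => sq_nonneg _) (Finset.mem_univ (pt i))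
  constructor <;> nlinarith

theorem norm_unit (g : Co0) (q : GolayPt) :
    sqNorm ((g • Leech.eightAt q : leechLattice) : GolayPt → ℤ) = 64 :=
  (Leech.sqNorm_smul _ _).trans (Leech.sqNorm_eightAt q)

/-- Pass an evaluated number on. -/
def forceN {α : Type} (n : ℕ) (f : ℕ → α) : α :=
  match n with
  | 0 => f 0
  | m + 1 => f (m + 1)

theorem forceN_eq {α : Type} (n : ℕ) (f : ℕ → α) : forceN n f = f n := by cases n <;> rfl

/-! ### Letters -/

/-- The sum over a tetrad. -/
def tetL (l : List ℤ) (a : ℕ) : ℤ :=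
  l.getD (Leech.sextetList.getD (4 * a + 0) 0) 0 + l.getD (Leech.sextetList.getD (4 * a + 1) 0) 0 +
    l.getD (Leech.sextetList.getD (4 * a + 2) 0) 0 + l.getD (Leech.sextetList.getD (4 * a + 3) 0) 0

/-- The action of a letter on coordinates. -/
def appL (k : ℕ) (l : List ℤ) : List ℤ :=
  if k < 16 then (srcLists.getD k []).map fun j => l.getD j 0
  else if k < 28 then (List.range 24).map fun i =>
    if (signMasks.getD (k - 16) 0).testBit i then -l.getD i 0 else l.getD i 0
  else (List.range 24).map fun i =>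
    (if Leech.tetradList.getD i 0 = 0 then -1 else 1) * (l.getD i 0 - tetL l (Leech.tetradList.getD i 0) / 2)

theorem perm_ok : ∀ k < 16, Good (permLists.getD k []) ∧ (permLists.getD k []).length = 24 ∧
    PreservesCode (permLists.getD k []) ∧ srcLists.getD k [] = invL (permLists.getD k []) := by
  unfold PreservesCode Good; decide +kernel

theorem sign_ok : ∀ k < 12, signMasks.getD k 0 = word (2 ^ k) := by decide +kernel

theorem tet_ok : ∀ i < 24, (Leech.tetOf (pt i)).val = Leech.tetradList.getD i 0 := by decide +kernel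

theorem exists_letter (k : ℕ) : ∃ g : Co0, ∀ v : leechLattice,
    k < 29 → toL ((g • v : leechLattice) : GolayPt → ℤ) = appL k (toL (v : GolayPt → ℤ)) := by
  by_cases h1 : k < 16
  · obtain ⟨hg, hl, hp, hs⟩ := perm_ok k h1
    refine ⟨Leech.permHom ⟨permL (permLists.getD k []), permL_mem_M24 hg hl hp⟩, fun v _ => ?_⟩
    rw [appL, if_pos h1, hs]
    conv_rhs => rw [← toList_permL hg hl, ← toList_inv]
    show (List.range 24).map _ = ((List.range 24).map _).map _
    rw [List.map_map]
    refine List.map_congr_left fun i _ => ?_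
    rw [Leech.permHom_apply]
    simp only [Function.comp_apply]
    rw [toL_getD_idx]
  by_cases h2 : k < 28
  · refine ⟨Leech.signAut ⟨_, vec_word_mem (2 ^ (k - 16))⟩, fun v _ => ?_⟩
    rw [appL, if_neg h1, if_pos h2, sign_ok (k - 16) (by omega)]
    refine List.map_congr_left fun i hi => ?_
    rw [Leech.signAut_apply, toL_getD _ (List.mem_range.1 hi)]
    simp only [Leech.flipSign, vec, idx_pt i (List.mem_range.1 hi)]
    by_cases hb : (word (2 ^ (k - 16))).testBit i = true
    · simp [hb]
    · simp [hb]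
  · refine ⟨Leech.xiAut, fun v hk => ?_⟩
    rw [appL, if_neg h1, if_neg h2]
    refine List.map_congr_left fun i hi => ?_
    rw [Leech.xiAut_apply, toL_getD _ (List.mem_range.1 hi), ← tet_ok i (List.mem_range.1 hi)]
    have hsum : tetL (toL (v : GolayPt → ℤ)) (Leech.tetOf (pt i)).val =
        Leech.tetSum (v : GolayPt → ℤ) (Leech.tetOf (pt i)) := by
      have hb : ∀ (a : Fin 6) (b : Fin 4),
          (toL (v : GolayPt → ℤ)).getD (Leech.sextetList.getD (4 * a.val + b.val) 0) 0 =
            (v : GolayPt → ℤ) (Leech.tetPt a b) := fun a b => by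
        rw [Leech.tetPt, toL_getD]
        exact (by decide +kernel : ∀ (a : Fin 6) (b : Fin 4), Leech.sextetList.getD (4 * a.val + b.val) 0 < 24) a b
      rw [Leech.tetSum, Fin.sum_univ_four, ← hb _ 0, ← hb _ 1, ← hb _ 2, ← hb _ 3]
      rfl
    rw [hsum]
    simp only [Leech.xi, Leech.tetSign]
    congr 1
    exact if_congr (by rw [Fin.ext_iff]; rfl) rfl rfl

/-- The automorphism of a letter. -/
noncomputable def letterElt (k : ℕ) : Co0 := Classical.choose (exists_letter k)

/-- The automorphism of a word. -/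
noncomputable def wordElt (w : List ℕ) : Co0 := (w.map letterElt).prod

/-- The positions. -/
def posList : List ℕ := [0, 1, 2, 3, 4, 5, 6, 7, 8, 9, 10, 11, 12, 13, 14, 15, 16, 17, 18, 19, 20, 21, 22, 23]

theorem posList_eq : posList = List.range 24 := by decide +kernel

/-- Half the sum over a tetrad, offset. -/
noncomputable def tetN (n a : ℕ) : ℕ :=
  Nat.div (Nat.add
    (Nat.add (fld n (nthD Leech.sextetList 0 (4 * a + 0))) (fld n (nthD Leech.sextetList 0 (4 * a + 1))))
    (Nat.add (fld n (nthD Leech.sextetList 0 (4 * a + 2))) (fld n (nthD Leech.sextetList 0 (4 * a + 3))))) 2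

/-- The action of a letter on packed coordinates. -/
noncomputable def appN (k n : ℕ) : ℕ :=
  if k < 16 then packF (fld n) (nthD srcLists [] k)
  else if k < 28 then packF (fun i => cond (Nat.testBit (nthD signMasks 0 (k - 16)) i)
    (Nat.sub 256 (fld n i)) (fld n i)) posList
  else packF (fun i => cond (Nat.beq (nthD Leech.tetradList 0 i) 0)
    (Nat.sub (tetN n (nthD Leech.tetradList 0 i)) (fld n i))
    (Nat.sub (Nat.add (fld n i) 256) (tetN n (nthD Leech.tetradList 0 i)))) posList

theorem appN_ok {k : ℕ} {l : List ℤ} (hl : Small l) : appN k (encL l) = encL (appL k l) := by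
  show appN k (encL l) = packF off (appL k l)
  rw [packF_map off (appL k l), appL, appN]
  split_ifs with h1 h2
  · rw [nthD_eq, packF_map, List.map_map]
    refine congrArg _ (List.map_congr_left fun j hj => ?_)
    have hj' : j < 24 := (by decide +kernel : ∀ k < 16, ∀ j ∈ srcLists.getD k [], j < 24) k h1 j hj
    exact fld_encL hl hj'
  · rw [packF_map, List.map_map, ← posList_eq]
    refine congrArg _ (List.map_congr_left fun i hi => ?_)
    have hi' : i < 24 := List.mem_range.1 (posList_eq ▸ hi)
    have hb : l.getD i 0 ∈ l := by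
      rw [List.getD_eq_getElem _ _ (hl.1.symm ▸ hi')]; exact List.getElem_mem _
    have := hl.2 _ hb
    rw [nthD_eq, fld_encL hl hi', Function.comp_apply]
    generalize l.getD i 0 = x at this ⊢
    cases (signMasks.getD (k - 16) 0).testBit i
    · rfl
    · simp only [cond_true, if_true, off]
      show Nat.sub 256 _ = _
      rw [Nat.sub_eq]
      omega
  · rw [packF_map, List.map_map, ← posList_eq]
    refine congrArg _ (List.map_congr_left fun i hi => ?_)
    have hi' : i < 24 := List.mem_range.1 (posList_eq ▸ hi)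
    have hb : ∀ j < 24, -8 ≤ l.getD j 0 ∧ l.getD j 0 ≤ 8 := fun j hj => hl.2 _ (by
      rw [List.getD_eq_getElem _ _ (hl.1.symm ▸ hj)]; exact List.getElem_mem _)
    obtain ⟨a, ha6, ha⟩ : ∃ a, a < 6 ∧ Leech.tetradList.getD i 0 = a :=
      ⟨_, (by decide +kernel : ∀ i < 24, Leech.tetradList.getD i 0 < 6) i hi', rfl⟩
    have hs : ∀ b < 4, Leech.sextetList.getD (4 * a + b) 0 < 24 :=
      (by decide +kernel : ∀ a < 6, ∀ b < 4, Leech.sextetList.getD (4 * a + b) 0 < 24) a ha6
    have h0 := hb i hi'
    have q0 := hb _ (hs 0 (by norm_num)); have q1 := hb _ (hs 1 (by norm_num))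
    have q2 := hb _ (hs 2 (by norm_num)); have q3 := hb _ (hs 3 (by norm_num))
    simp only [tetN, nthD_eq, ha, fld_encL hl hi', fld_encL hl (hs 0 (by norm_num)),
      fld_encL hl (hs 1 (by norm_num)), fld_encL hl (hs 2 (by norm_num)), fld_encL hl (hs 3 (by norm_num)),
      Function.comp_apply, tetL, ha]
    change cond (Nat.beq a 0) (((_ + _) + (_ + _)) / 2 - _) (_ + 256 - ((_ + _) + (_ + _)) / 2) = _
    generalize l.getD i 0 = x at h0 ⊢
    generalize l.getD (Leech.sextetList.getD (4 * a + 0) 0) 0 = x0 at q0 ⊢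
    generalize l.getD (Leech.sextetList.getD (4 * a + 1) 0) 0 = x1 at q1 ⊢
    generalize l.getD (Leech.sextetList.getD (4 * a + 2) 0) 0 = x2 at q2 ⊢
    generalize l.getD (Leech.sextetList.getD (4 * a + 3) 0) 0 = x3 at q3 ⊢
    rcases a with _ | a
    · simp only [off, if_pos]
      show (_ : ℕ) = _
      simp only [show Nat.beq 0 0 = true from rfl, cond_true]
      omega
    · simp only [off, show Nat.beq (a + 1) 0 = false from rfl, cond_false, if_neg (Nat.succ_ne_zero a)]
      omega

/-- The action of a word on packed coordinates. -/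
noncomputable def evalN : List ℕ → ℕ → ℕ
  | [], n => n
  | k :: w, n => forceN (evalN w n) (appN k)

theorem evalN_wordElt : ∀ {w : List ℕ}, w.all (· < 29) = true → ∀ (g : Co0) (q : GolayPt),
    evalN w (encL (toL ((g • Leech.eightAt q : leechLattice) : GolayPt → ℤ))) =
      encL (toL (((wordElt w * g) • Leech.eightAt q : leechLattice) : GolayPt → ℤ))
  | [], _, g, q => by simp [wordElt, evalN]
  | k :: w, h, g, q => by
    rw [List.all_cons, Bool.and_eq_true, decide_eq_true_eq] at h
    rw [evalN, forceN_eq, evalN_wordElt h.2 g q, appN_ok (small_toL (norm_unit _ q)),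
      ← Classical.choose_spec (exists_letter k) _ h.1, ← mul_smul, ← mul_assoc]
    rfl

/-- A packed unit. -/
noncomputable def unitN (q : ℕ) : ℕ := packF (fun i => cond (Nat.beq i q) 136 128) posList

theorem unitN_eq : ∀ q < 24, unitN q = encL (unitL q) := by decide +kernel

theorem encL_unit {q : ℕ} (hq : q < 24) :
    encL (toL (((1 : Co0) • Leech.eightAt (pt q) : leechLattice) : GolayPt → ℤ)) = unitN q := by
  rw [one_smul, unitN_eq q hq]
  congr 1
  refine List.map_congr_left fun i hi => ?_
  rw [Leech.eightAt_apply]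
  refine if_congr ⟨fun h => ?_, fun h => by rw [h]⟩ rfl rfl
  have e := congrArg idx h
  rwa [idx_pt q hq, idx_pt i (List.mem_range.1 hi)] at e

theorem ext_units {g h : Co0}
    (H : ∀ q < 24, encL (toL ((g • Leech.eightAt (pt q) : leechLattice) : GolayPt → ℤ)) =
      encL (toL ((h • Leech.eightAt (pt q) : leechLattice) : GolayPt → ℤ))) : g = h := by
  refine Leech.eq_of_mat_eq fun p q => ?_
  have := toL_injective (encL_inj (small_toL (norm_unit _ _)) (small_toL (norm_unit _ _)) (H (idx q) (idx_lt q)))
  rw [pt_idx] at this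
  exact congrFun this p

/-! ### The element of order five and the involutions -/

theorem words_lt : gWord.all (· < 29) = true ∧ zWord.all (· < 29) = true ∧
    ∀ j < 5, (tWords.getD j []).all (· < 29) = true := by decide +kernel

/-- The element of order five. -/
noncomputable def gE : Co0 := wordElt gWord

theorem evalN_gE (g : Co0) (q : GolayPt) :
    evalN gWord (encL (toL ((g • Leech.eightAt q : leechLattice) : GolayPt → ℤ))) =
      encL (toL (((gE * g) • Leech.eightAt q : leechLattice) : GolayPt → ℤ)) := evalN_wordElt words_lt.1 g q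

theorem gE_check : ∀ q < 24,
    evalN gWord (evalN gWord (evalN gWord (evalN gWord (evalN gWord (unitN q))))) = unitN q := by decide +kernel

theorem gE_pow_five : gE ^ 5 = 1 := ext_units fun q hq => by
  rw [encL_unit hq]
  refine Eq.trans ?_ (gE_check q hq)
  rw [← encL_unit hq, evalN_gE, evalN_gE, evalN_gE, evalN_gE, evalN_gE, mul_one]
  simp only [pow_succ, pow_zero, one_mul, mul_assoc]

theorem gE_moves : evalN gWord (unitN 0) ≠ unitN 0 := by decide +kernel

theorem gE_ne : gE ≠ 1 := fun h => gE_moves (by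
  have h1 := evalN_gE 1 (pt 0)
  rwa [h, one_mul, encL_unit (by norm_num)] at h1)

/-- A sparse row applied to coordinates. -/
def dotS (r : List (ℕ × ℤ)) (l : List ℤ) : ℤ :=
  match r with
  | [] => 0
  | e :: r => e.2 * l.getD e.1 0 + dotS r l

/-- A coefficient of a sparse row. -/
def coefS (r : List (ℕ × ℤ)) (q : ℕ) : ℤ :=
  match r with
  | [] => 0
  | e :: r => (if e.1 = q then e.2 else 0) + coefS r q

/-- A sparse matrix applied to coordinates. -/
def mulS (j : ℕ) (l : List ℤ) : List ℤ := (tRows.getD j []).map fun r => dotS r l / 8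

/-- The positive part of a sparse row on packed coordinates. -/
noncomputable def posD (r : List (ℕ × ℤ)) (n : ℕ) : ℕ :=
  List.rec (motive := fun _ => ℕ) 0 (fun e _ a =>
    Nat.add (Nat.add (Nat.mul (Int.toNat e.2) (fld n e.1)) (Nat.mul (Int.toNat (-e.2)) 128)) a) r

/-- The negative part of a sparse row on packed coordinates. -/
noncomputable def negD (r : List (ℕ × ℤ)) (n : ℕ) : ℕ :=
  List.rec (motive := fun _ => ℕ) 0 (fun e _ a =>
    Nat.add (Nat.add (Nat.mul (Int.toNat (-e.2)) (fld n e.1)) (Nat.mul (Int.toNat e.2) 128)) a) r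

/-- A sparse matrix applied to packed coordinates. -/
noncomputable def mulN (j n : ℕ) : ℕ :=
  packF (fun r => Nat.div (Nat.sub (Nat.add (posD r n) 1024) (negD r n)) 8) (nthD tRows [] j)

theorem posD_negD {l : List ℤ} (hl : Small l) : ∀ r : List (ℕ × ℤ), (∀ e ∈ r, e.1 < 24) →
    (posD r (encL l) : ℤ) - (negD r (encL l) : ℤ) = dotS r l
  | [], _ => rfl
  | e :: r, h => by
    have he := h e (List.mem_cons.2 (Or.inl rfl))
    have ih := posD_negD hl r fun e' he' => h e' (List.mem_cons.2 (Or.inr he'))
    show ((e.2.toNat * fld (encL l) e.1 + (-e.2).toNat * 128 + posD r (encL l) : ℕ) : ℤ) -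
      (((-e.2).toNat * fld (encL l) e.1 + e.2.toNat * 128 + negD r (encL l) : ℕ) : ℤ) = _
    have hb : -8 ≤ l.getD e.1 0 ∧ l.getD e.1 0 ≤ 8 := hl.2 _ (by
      rw [List.getD_eq_getElem _ _ (hl.1.symm ▸ he)]; exact List.getElem_mem _)
    rw [fld_encL hl he, dotS, ← ih, off]
    rcases le_total 0 e.2 with h2 | h2
    · rw [show (-e.2).toNat = 0 by omega]
      push_cast [Int.toNat_of_nonneg h2, Int.toNat_of_nonneg (show (0 : ℤ) ≤ l.getD e.1 0 + 128 by omega)]
      ring
    · rw [show e.2.toNat = 0 by omega]
      push_cast [Int.toNat_of_nonneg (show (0 : ℤ) ≤ -e.2 by omega),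
        Int.toNat_of_nonneg (show (0 : ℤ) ≤ l.getD e.1 0 + 128 by omega)]
      ring

theorem dotS_eq : ∀ (r : List (ℕ × ℤ)), (∀ e ∈ r, e.1 < 24) → ∀ x : GolayPt → ℤ,
    dotS r (toL x) = ∑ q, coefS r (idx q) * x q
  | [], _, x => by simp [dotS, coefS]
  | e :: r, h, x => by
    have he := h e (List.mem_cons.2 (Or.inl rfl))
    simp only [dotS, coefS, add_mul, Finset.sum_add_distrib, toL_getD x he,
      dotS_eq r (fun e' he' => h e' (List.mem_cons.2 (Or.inr he'))) x]
    congr 1
    rw [Finset.sum_eq_single (pt e.1) (fun q _ hq => by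
      rw [if_neg fun h' => hq (by rw [h', pt_idx]), zero_mul]) (by simp), idx_pt _ he, if_pos rfl]

/-- The involutions. -/
noncomputable def tE (j : ℕ) : Co0 := wordElt (tWords.getD j [])

theorem tRows_shape : ∀ j < 5, (tRows.getD j []).length = 24 ∧ ∀ r ∈ tRows.getD j [], ∀ e ∈ r, e.1 < 24 := by
  decide +kernel

theorem tRows_check : ∀ j < 5, ∀ q < 24, ((nthD tRows [] j).all fun r => decide (-8 ≤ coefS r q ∧ coefS r q ≤ 8)) = true ∧
    packF (fun r => off (coefS r q)) (nthD tRows [] j) = evalN (tWords.getD j []) (unitN q) := by decide +kernel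

theorem toL_tE {j : ℕ} (hj : j < 5) (v : leechLattice) :
    toL ((tE j • v : leechLattice) : GolayPt → ℤ) = mulS j (toL (v : GolayPt → ℤ)) := by
  obtain ⟨hlen, hlt⟩ := tRows_shape j hj
  refine List.ext_getElem (by simp only [toL, mulS, List.length_map, List.length_range]; rw [hlen]) fun i h1 h2 => ?_
  have hi : i < 24 := by simpa [toL] using h1
  have hmat : ∀ q, Leech.mat (tE j) (pt i) q = coefS ((tRows.getD j [])[i]'(hlen ▸ hi)) (idx q) := fun q => by
    obtain ⟨hsm, he⟩ := tRows_check j hj (idx q) (idx_lt q)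
    rw [nthD_eq] at hsm he
    rw [← encL_unit (idx_lt q), evalN_wordElt (words_lt.2.2 j hj), mul_one, packF_map] at he
    have e2 : encL ((tRows.getD j []).map fun r => coefS r (idx q)) =
        encL (toL ((tE j • Leech.eightAt (pt (idx q)) : leechLattice) : GolayPt → ℤ)) := by
      rw [encL, packF_map, List.map_map]; exact he
    have hs : Small ((tRows.getD j []).map fun r => coefS r (idx q)) := ⟨(List.length_map _).trans hlen, fun a ha => by
      obtain ⟨r, hr, rfl⟩ := List.mem_map.1 ha
      simpa using List.all_eq_true.1 hsm r hr⟩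
    have h := congrArg (fun l : List ℤ => l.getD i 0) (encL_inj hs (small_toL (norm_unit _ _)) e2)
    rw [pt_idx] at h
    simp only [toL_getD _ hi] at h
    rw [List.getD_eq_getElem _ _ (by rw [List.length_map, hlen]; exact hi)] at h
    simp only [List.getElem_map] at h
    exact h.symm
  have h8 := Leech.mat_mul_vec (tE j) v (pt i)
  simp only [hmat, ← dotS_eq _ (hlt _ (List.getElem_mem (hlen ▸ hi)))] at h8
  simp only [mulS, List.getElem_map]
  rw [← h8, Int.mul_ediv_cancel_left _ (by norm_num : (8 : ℤ) ≠ 0)]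
  simp only [toL, List.getElem_map, List.getElem_range]

theorem mulN_tE {j : ℕ} (hj : j < 5) (g : Co0) (q : GolayPt) :
    mulN j (encL (toL ((g • Leech.eightAt q : leechLattice) : GolayPt → ℤ))) =
      encL (toL (((tE j * g) • Leech.eightAt q : leechLattice) : GolayPt → ℤ)) := by
  have hout := small_toL (norm_unit (tE j * g) q)
  rw [mul_smul, toL_tE hj] at hout ⊢
  have hl := small_toL (norm_unit g q)
  obtain ⟨hlen, hlt⟩ := tRows_shape j hj
  show mulN j (encL _) = packF off (mulS j _)
  rw [mulN, nthD_eq, packF_map, packF_map off, mulS, List.map_map]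
  refine congrArg _ (List.map_congr_left fun r hr => ?_)
  rw [Function.comp_apply]
  have h := posD_negD hl r (hlt r hr)
  have hb := hout.2 _ (List.mem_map.2 ⟨r, hr, rfl⟩)
  generalize dotS r (toL ((g • Leech.eightAt q : leechLattice) : GolayPt → ℤ)) = d at h hb ⊢
  generalize posD r (encL (toL ((g • Leech.eightAt q : leechLattice) : GolayPt → ℤ))) = A at h ⊢
  generalize negD r (encL (toL ((g • Leech.eightAt q : leechLattice) : GolayPt → ℤ))) = B at h ⊢
  show (A + 1024 - B) / 8 = off _
  simp only [off, Function.comp_apply]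
  omega

theorem comm_check : ∀ j < 5, ∀ q < 24,
    mulN j (evalN gWord (unitN q)) = evalN gWord (mulN j (unitN q)) := by decide +kernel

theorem tE_comm {j : ℕ} (hj : j < 5) : tE j * gE = gE * tE j := ext_units fun q hq => by
  have h := comm_check j hj q hq
  rwa [← encL_unit hq, evalN_gE, mulN_tE hj, mulN_tE hj, evalN_gE, mul_one, mul_one] at h

theorem zWord_check : ∀ q < 24,
    evalN zWord (unitN q) = packF (fun i => cond (Nat.beq i q) (cond (Nat.testBit baseOctad i) 120 136) 128) posList := by
  decide +kernel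

theorem tE_zero : tE 0 = Co1Cent.octFlip := by
  refine ext_units fun q hq => ?_
  have h := zWord_check q hq
  rw [← encL_unit hq, evalN_wordElt words_lt.2.1, mul_one] at h
  refine Eq.trans h ?_
  rw [packF_map, encL, packF_map off, posList_eq, toL, List.map_map]
  refine congrArg _ (List.map_congr_left fun i hi => ?_)
  rw [Function.comp_apply, Co1Cent.octFlip, Leech.signAut_apply]
  simp only [Leech.flipSign, Co1Cent.octWord_apply, Co1Cent.mem_oct, idx_pt i (List.mem_range.1 hi), Leech.eightAt_apply]
  by_cases he : i = q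
  · subst he
    cases hb : baseOctad.testBit i <;> simp [off]
  · have hne : pt i ≠ pt q := fun e => he (by
      have := congrArg idx e; rwa [idx_pt i (List.mem_range.1 hi), idx_pt q hq] at this)
    rw [show Nat.beq i q = false from Bool.eq_false_iff.2 fun h' => he (Nat.eq_of_beq_eq_true h')]
    simp [off, hne]

/-! ### Equalities in the centraliser from six coordinates -/

/-- A word in the involutions on packed coordinates. -/
noncomputable def evalT : List ℕ → ℕ → ℕ
  | [], n => n
  | j :: w, n => forceN (evalT w n) (mulN j)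

/-- The five involutions. -/
noncomputable def tList : List Co0 := [tE 0, tE 1, tE 2, tE 3, tE 4]

theorem fl_tList {j : ℕ} (hj : j < 5) : fl tList j = tE j := by
  interval_cases j <;> rfl

theorem evalT_ev : ∀ {w : List ℕ}, w.all (· < 5) = true → ∀ (g : Co0) (q : GolayPt),
    evalT w (encL (toL ((g • Leech.eightAt q : leechLattice) : GolayPt → ℤ))) =
      encL (toL (((ev tList w * g) • Leech.eightAt q : leechLattice) : GolayPt → ℤ))
  | [], _, g, q => by simp [evalT]
  | j :: w, h, g, q => by
    rw [List.all_cons, Bool.and_eq_true, decide_eq_true_eq] at h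
    rw [evalT, forceN_eq, evalT_ev h.2 g q, mulN_tE h.1, ev_cons, fl_tList h.1, mul_assoc]

theorem ev_comm : ∀ {w : List ℕ}, w.all (· < 5) = true → ev tList w * gE = gE * ev tList w
  | [], _ => by simp
  | j :: w, h => by
    rw [List.all_cons, Bool.and_eq_true, decide_eq_true_eq] at h
    rw [ev_cons, fl_tList h.1, mul_assoc, ev_comm h.2, ← mul_assoc, tE_comm h.1, mul_assoc]

theorem qsBase_lt : ∀ m < 6, qsBase.getD m 0 < 24 := by decide +kernel

/-- The `k`th generating coordinate vector. -/
noncomputable def baseVec (k : ℕ) : leechLattice := gE ^ (k % 4) • Leech.eightAt (pt (qsBase.getD (k / 4) 0))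

theorem gPows_check : ∀ m < 6, nthD gPows 0 (4 * m) = unitN (qsBase.getD m 0) ∧
    ∀ i < 3, nthD gPows 0 (4 * m + (i + 1)) = evalN gWord (nthD gPows 0 (4 * m + i)) := by decide +kernel

theorem gPows_eq {k : ℕ} (hk : k < 24) : nthD gPows 0 k = encL (toL (baseVec k : GolayPt → ℤ)) := by
  have key : ∀ m < 6, ∀ i, i < 4 →
      nthD gPows 0 (4 * m + i) = encL (toL ((gE ^ i • Leech.eightAt (pt (qsBase.getD m 0)) : leechLattice) : GolayPt → ℤ)) := by
    intro m hm i
    induction i with
    | zero =>
      intro _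
      rw [pow_zero, encL_unit (qsBase_lt m hm), Nat.add_zero, (gPows_check m hm).1]
    | succ i ih =>
      intro hi
      rw [(gPows_check m hm).2 i (by omega), ih (by omega), evalN_gE, pow_succ']
  have h := key (k / 4) (by omega) (k % 4) (by omega)
  rwa [Nat.div_add_mod] at h

theorem span_check : ∀ p < 24, ∀ r < 24, (∑ k : Fin 24, (spanCoef.getD p []).getD k.val 0 *
    ((fld (nthD gPows 0 k.val) r : ℤ) - 128)) = (unitL p).getD r 0 := by decide +kernel

theorem span_eq {p : ℕ} (hp : p < 24) :
    Leech.eightAt (pt p) = ∑ k : Fin 24, (spanCoef.getD p []).getD k.val 0 • baseVec k.val := by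
  refine Subtype.ext (funext fun r => ?_)
  have hs : ∀ k : Fin 24, Small (toL (baseVec k.val : GolayPt → ℤ)) := fun k => small_toL (norm_unit _ _)
  have h := span_check p hp (idx r) (idx_lt r)
  rw [show (unitL p).getD (idx r) 0 = (Leech.eightAt (pt p) : GolayPt → ℤ) r by
    rw [← toL_getD_idx (Leech.eightAt (pt p) : GolayPt → ℤ), toL_eightAt, idx_pt p hp]] at h
  rw [← h, AddSubmonoidClass.coe_finsetSum, Finset.sum_apply]
  refine Finset.sum_congr rfl fun k _ => ?_
  rw [gPows_eq k.2, fld_encL (hs k) (idx_lt r), toL_getD_idx]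
  show _ = _ * (baseVec k.val : GolayPt → ℤ) r
  have hb := (hs k).2 _ (List.mem_map.2 ⟨idx r, List.mem_range.2 (idx_lt r), rfl⟩)
  rw [pt_idx] at hb
  congr 1
  simp only [off]
  omega

/-- An element of the centraliser is known from six coordinates. -/
theorem eq_of_base {g h : Co0} (hg : g * gE = gE * g) (hh : h * gE = gE * h)
    (H : ∀ m < 6, g • Leech.eightAt (pt (qsBase.getD m 0)) = h • Leech.eightAt (pt (qsBase.getD m 0))) : g = h := by
  have hk : ∀ {x : Co0}, x * gE = gE * x → ∀ i : ℕ, x * gE ^ i = gE ^ i * x := fun hx i =>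
    (Commute.pow_right hx i).eq
  refine ext_units fun q hq => ?_
  rw [span_eq hq, Leech.smul_sum', Leech.smul_sum']
  congr 4
  refine funext fun k => ?_
  rw [Leech.smul_zsmul', Leech.smul_zsmul', baseVec, ← mul_smul, hk hg, mul_smul, H _ (by omega), ← mul_smul, ← hk hh, mul_smul]

theorem neg_comm : Leech.negAut * gE = gE * Leech.negAut := (Subgroup.mem_center_iff.1 Leech.negAut_central gE).symm

/-- The packed negative of a unit. -/
noncomputable def negN (q : ℕ) : ℕ := packF (fun i => cond (Nat.beq i q) 120 128) posList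

theorem negN_eq : ∀ q < 24, negN q = encL ((unitL q).map fun x => -x) := by decide +kernel

theorem encL_neg {q : ℕ} (hq : q < 24) :
    encL (toL ((Leech.negAut • Leech.eightAt (pt q) : leechLattice) : GolayPt → ℤ)) = negN q := by
  rw [negN_eq q hq, Leech.negAut_smul, ← show toL (Leech.eightAt (pt q) : GolayPt → ℤ) = unitL q by
    rw [toL_eightAt, idx_pt q hq]]
  simp [toL, List.map_map, Function.comp_def]

theorem rels_check : ∀ w ∈ J2.Perm.rels, w.all (· < 5) = true ∧
    ((∀ m < 6, evalT w (unitN (qsBase.getD m 0)) = unitN (qsBase.getD m 0)) ∨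
      ∀ m < 6, evalT w (unitN (qsBase.getD m 0)) = negN (qsBase.getD m 0)) := by decide +kernel

theorem base_of_eval {w : List ℕ} {h : Co0} {m : ℕ} (hl : w.all (· < 5) = true) (hm : m < 6)
    (he : evalT w (unitN (qsBase.getD m 0)) =
      encL (toL ((h • Leech.eightAt (pt (qsBase.getD m 0)) : leechLattice) : GolayPt → ℤ))) :
    ev tList w • Leech.eightAt (pt (qsBase.getD m 0)) = h • Leech.eightAt (pt (qsBase.getD m 0)) := by
  rw [← encL_unit (qsBase_lt m hm), evalT_ev hl, mul_one] at he
  exact Subtype.ext (toL_injective (encL_inj (small_toL (norm_unit _ _)) (small_toL (norm_unit _ _)) he))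

theorem ev_rel {w : List ℕ} (hw : w ∈ J2.Perm.rels) : ev tList w = 1 ∨ ev tList w = Leech.negAut := by
  obtain ⟨hl, h | h⟩ := rels_check w hw
  · refine Or.inl (eq_of_base (ev_comm hl) (by simp) fun m hm => base_of_eval hl hm ?_)
    rw [h m hm, encL_unit (qsBase_lt m hm)]
  · refine Or.inr (eq_of_base (ev_comm hl) neg_comm fun m hm => base_of_eval hl hm ?_)
    rw [h m hm, encL_neg (qsBase_lt m hm)]

theorem xWord_check : (xWord ++ xWord).all (· < 5) = true ∧ ∀ m < 6,
    evalT (xWord ++ xWord) (unitN (qsBase.getD m 0)) = negN (qsBase.getD m 0) := by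
  decide +kernel

theorem ev_x : ev tList (xWord ++ xWord) = Leech.negAut := by
  obtain ⟨hl, h⟩ := xWord_check
  refine eq_of_base (ev_comm hl) neg_comm fun m hm => base_of_eval hl hm ?_
  rw [h m hm, encL_neg (qsBase_lt m hm)]

end CfsgLib.CoFive
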