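import Cfsg.Agent.CoFive.Abstract
import Cfsg.Agent.CoFive.Bound

/-!
# The centraliser of an element of order five in Conway's group has a section of Hall–Janko type
-/

set_option autoImplicit false
set_option maxRecDepth 100000
set_option maxHeartbeats 1000000
set_option linter.style.haveILetI false

namespace CfsgLib.CoFive

open Cfsg CfsgLib CfsgLib.Co1Cent
open CfsgLib.Coset (ev fl ev_cons ev_nil ev_append numHom numHom_fl)

attribute [local irreducible] CfsgLib.Leech.shortVecs CfsgLib.Leech.halfTable CfsgLib.Leech.quarterTable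

/-- The subgroup of order five. -/
noncomputable abbrev aE : Subgroup Co0 := Subgroup.zpowers gE

/-- Its centraliser. -/
noncomputable abbrev cA : Subgroup Co0 := Subgroup.centralizer (aE : Set Co0)

theorem mem_cA {x : Co0} : x ∈ cA ↔ x * gE = gE * x := by
  rw [show cA = Subgroup.centralizer ({gE} : Set Co0) by
    show Subgroup.centralizer _ = _
    rw [show aE = Subgroup.closure {gE} from Subgroup.zpowers_eq_closure gE, Subgroup.centralizer_closure]]
  exact Subgroup.mem_centralizer_singleton_iff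

theorem orderOf_gE : orderOf gE = 5 :=
  orderOf_eq_prime (hp := ⟨by norm_num⟩) gE_pow_five gE_ne

theorem card_aE : Nat.card aE = 5 := by rw [Nat.card_zpowers, orderOf_gE]

/-- The subgroup to factor out. -/
noncomputable abbrev nA : Subgroup cA := (aE ⊔ Subgroup.center Co0).subgroupOf cA

theorem sup_spec {x : Co0} : x ∈ aE ⊔ Subgroup.center Co0 ↔ ∃ y ∈ aE, ∃ e ∈ Subgroup.center Co0, y * e = x :=
  Subgroup.mem_sup_of_normal_right

instance nA_normal : nA.Normal := by
  refine ⟨fun n hn g => ?_⟩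
  obtain ⟨y, hy, e, he, hye⟩ := sup_spec.1 (Subgroup.mem_subgroupOf.1 hn)
  suffices h : g * n * g⁻¹ = n by rw [h]; exact hn
  have hgy : (g : Co0) * y = y * (g : Co0) := (Subgroup.mem_centralizer_iff.1 g.2 y hy).symm
  refine Subtype.ext ?_
  show (g : Co0) * (n : Co0) * (g : Co0)⁻¹ = (n : Co0)
  rw [← hye, ← mul_assoc, hgy, mul_assoc y, Subgroup.mem_center_iff.1 he, ← mul_assoc, mul_inv_cancel_right]

theorem center_cases {e : Co0} (he : e ∈ Subgroup.center Co0) : e = 1 ∨ e = Leech.negAut := by
  rw [← SetLike.mem_coe, Leech.center_eq] at he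
  exact he

theorem center_sq {e : Co0} (he : e ∈ Subgroup.center Co0) : e * e = 1 := by
  rcases center_cases he with rfl | rfl
  · exact one_mul 1
  · rw [← Leech.signAut_one, Leech.signAut_mul, add_self_code, Leech.signAut_zero]

theorem pow_five {y : Co0} (hy : y ∈ aE) : y ^ 5 = 1 := by
  obtain ⟨k, rfl⟩ := Subgroup.mem_zpowers_iff.1 hy
  rw [← zpow_natCast, ← zpow_mul, mul_comm, zpow_mul, zpow_natCast, gE_pow_five, one_zpow]

theorem eq_one_of_sq {y : Co0} (hy : y ∈ aE) (h : y * y = 1) : y = 1 := by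
  have h5 := pow_five hy
  simp only [pow_succ, pow_zero, one_mul, h] at h5
  exact h5

theorem sq_ne_neg {y : Co0} (hy : y ∈ aE) : y * y ≠ Leech.negAut := by
  intro h
  refine Leech.negAut_ne_one ?_
  have h5 : (y * y) ^ 5 = 1 := by rw [← pow_two, ← pow_mul, mul_comm, pow_mul, pow_five hy, one_pow]
  rw [h] at h5
  have h2 : Leech.negAut * Leech.negAut = 1 := center_sq Leech.negAut_central
  simp only [pow_succ, pow_zero, one_mul, h2] at h5
  exact h5

theorem sq_sup {x y e : Co0} (hy : y ∈ aE) (he : e ∈ Subgroup.center Co0) (hx : x ∈ cA) :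
    (x * (y * e)) * (x * (y * e)) = (x * x) * (y * y) := by
  have hyx : y * x = x * y := Subgroup.mem_centralizer_iff.1 hx y hy
  have hex : ∀ u, u * e = e * u := Subgroup.mem_center_iff.1 he
  calc (x * (y * e)) * (x * (y * e)) = x * y * (e * x) * (y * e) := by group
    _ = x * (y * x) * (e * y) * e := by rw [← hex x]; group
    _ = x * (x * y) * y * (e * e) := by rw [hyx, ← hex y]; group
    _ = (x * x) * (y * y) := by rw [center_sq he]; group

theorem octFlip_mem_cA : octFlip ∈ cA := by
  rw [mem_cA, ← tE_zero]; exact tE_comm (by norm_num)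

theorem octFlip_sq : octFlip * octFlip = 1 := by
  rw [octFlip, Leech.signAut_mul, add_self_code, Leech.signAut_zero]

theorem octFlip_not_center : octFlip ∉ Subgroup.center Co0 := fun h => by
  have h1 : zC = 1 := mk1_eq_one.2 (center_cases h)
  have h2 := orderOf_zC
  rw [h1, orderOf_one] at h2
  omega

theorem not_sup_octFlip : octFlip ∉ aE ⊔ Subgroup.center Co0 := by
  intro h
  obtain ⟨y, hy, e, he, hye⟩ := sup_spec.1 h
  have h1 := sq_sup hy he (one_mem cA)
  simp only [one_mul, hye, octFlip_sq] at h1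
  rw [eq_one_of_sq hy h1.symm, one_mul] at hye
  exact octFlip_not_center (hye ▸ he)

/-! ### The homomorphism -/

theorem map_ev {G H : Type*} [Group G] [Group H] (f : G →* H) (L : List G) :
    ∀ w : List ℕ, f (ev L w) = ev (L.map f) w
  | [] => by simp
  | l :: w => by
    rw [ev_cons, ev_cons, map_mul, map_ev f L w]
    congr 1
    rcases lt_or_ge l L.length with h | h
    · simp [fl, List.getD_eq_getElem?_getD, h]
    · simp [fl, List.getD_eq_getElem?_getD, h]

/-- An involution in the centraliser. -/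
noncomputable def tA (j : Fin 5) : cA := ⟨tE j.val, mem_cA.2 (tE_comm j.2)⟩

/-- The five involutions in the centraliser. -/
noncomputable def tListA : List cA := [tA 0, tA 1, tA 2, tA 3, tA 4]

theorem tListA_map : tListA.map cA.subtype = tList := rfl

/-- The images in the quotient. -/
noncomputable def tListQ : List (cA ⧸ nA) := tListA.map (QuotientGroup.mk' nA)

theorem rels_hold : ∀ w ∈ J2.Perm.rels, ev tListQ w = 1 := by
  intro w hw
  rw [tListQ, ← map_ev, QuotientGroup.mk'_apply, QuotientGroup.eq_one_iff, Subgroup.mem_subgroupOf]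
  show cA.subtype (ev tListA w) ∈ _
  rw [map_ev, tListA_map]
  rcases ev_rel hw with h | h <;> rw [h]
  · exact one_mem _
  · exact Subgroup.mem_sup_right Leech.negAut_central

/-- The map from the presented group. -/
noncomputable def phi : J2.Perm.P →* cA ⧸ nA := numHom (L := tListQ) (show tListQ.length = 5 from rfl) rels_hold

theorem phi_z : phi J2.Perm.z = QuotientGroup.mk' nA ⟨octFlip, octFlip_mem_cA⟩ := by
  refine (numHom_fl (L := tListQ) rfl rels_hold 0).trans ?_
  show QuotientGroup.mk' nA (tA 0) = _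
  exact congrArg _ (Subtype.ext tE_zero)

theorem phi_injective : Function.Injective phi := by
  haveI := J2.Perm.isSimple
  rcases (MonoidHom.normal_ker phi).eq_bot_or_eq_top with h | h
  · exact (MonoidHom.ker_eq_bot_iff phi).1 h
  · exfalso
    have h1 : phi J2.Perm.z = 1 := MonoidHom.mem_ker.1 (h ▸ Subgroup.mem_top _)
    rw [phi_z, QuotientGroup.mk'_apply, QuotientGroup.eq_one_iff, Subgroup.mem_subgroupOf] at h1
    exact not_sup_octFlip h1

theorem finite_co0 : Finite Co0 := inferInstance

theorem conj_fix {x : cA} (h : (QuotientGroup.mk' nA x) * phi J2.Perm.z = phi J2.Perm.z * QuotientGroup.mk' nA x) :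
    (x : Co0) ∈ c0 := by
  rw [phi_z, ← map_mul, ← map_mul, QuotientGroup.mk'_apply, QuotientGroup.mk'_apply, QuotientGroup.eq,
    Subgroup.mem_subgroupOf] at h
  obtain ⟨y, hy, e, he, hye⟩ := sup_spec.1 h
  have hxo : octFlip * (x : Co0) = (x : Co0) * octFlip * (y * e) := by
    have h' : y * e = ((x : Co0) * octFlip)⁻¹ * (octFlip * (x : Co0)) := hye
    rw [h', mul_inv_cancel_left]
  have hc : (x : Co0)⁻¹ * octFlip * (x : Co0) = octFlip * (y * e) := by
    rw [mul_assoc, hxo, mul_assoc, inv_mul_cancel_left]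
  have h1 := sq_sup hy he octFlip_mem_cA
  rw [← hc, octFlip_sq, one_mul] at h1
  rw [show (x : Co0)⁻¹ * octFlip * (x : Co0) * ((x : Co0)⁻¹ * octFlip * (x : Co0)) =
    (x : Co0)⁻¹ * (octFlip * octFlip) * (x : Co0) by group, octFlip_sq, mul_one, inv_mul_cancel] at h1
  rw [eq_one_of_sq hy h1.symm, one_mul] at hxo
  rcases center_cases he with rfl | rfl
  · rw [mul_one] at hxo
    exact mem_c0.2 hxo.symm
  · exfalso
    refine not_anti (x : Co0) ?_
    have hn : Leech.negAut * Leech.negAut = 1 := center_sq he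
    calc (x : Co0) * octFlip = (x : Co0) * octFlip * (Leech.negAut * Leech.negAut) := by rw [hn, mul_one]
      _ = octFlip * (x : Co0) * Leech.negAut := by rw [hxo]; group
      _ = Leech.negAut * (octFlip * (x : Co0)) := Subgroup.mem_center_iff.1 he _

theorem five_two_dvd : 10 ≤ Nat.card nA := by
  haveI := finite_co0
  have hle : aE ⊔ Subgroup.center Co0 ≤ cA := sup_le
    (fun y hy => Subgroup.mem_centralizer_iff.2 fun z hz => by
      obtain ⟨i, rfl⟩ := Subgroup.mem_zpowers_iff.1 hy
      obtain ⟨j, rfl⟩ := Subgroup.mem_zpowers_iff.1 hz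
      rw [← zpow_add, ← zpow_add, add_comm])
    (Subgroup.center_le_centralizer _)
  rw [Nat.card_congr (Subgroup.subgroupOfEquivOfLe hle).toEquiv]
  have h5 : 5 ∣ Nat.card (aE ⊔ Subgroup.center Co0 : Subgroup Co0) := by
    conv_lhs => rw [← card_aE]
    exact Subgroup.card_dvd_of_le le_sup_left
  have h2 : 2 ∣ Nat.card (aE ⊔ Subgroup.center Co0 : Subgroup Co0) := by
    conv_lhs => rw [← Leech.card_center]
    exact Subgroup.card_dvd_of_le le_sup_right
  exact Nat.le_of_dvd Nat.card_pos (Nat.Coprime.mul_dvd_of_dvd_of_dvd (by norm_num : Nat.Coprime 5 2) h5 h2)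

theorem card_cent : Nat.card (Subgroup.centralizer ({phi J2.Perm.z} : Set (cA ⧸ nA))) ≤ 1920 := by
  haveI := finite_co0
  let D : Subgroup cA := c0.subgroupOf cA
  let π : D →* cA ⧸ nA := (QuotientGroup.mk' nA).comp D.subtype
  have hle : Subgroup.centralizer ({phi J2.Perm.z} : Set (cA ⧸ nA)) ≤ π.range := by
    intro q hq
    obtain ⟨x, rfl⟩ := QuotientGroup.mk'_surjective nA q
    exact ⟨⟨x, Subgroup.mem_subgroupOf.2 (conj_fix (Subgroup.mem_centralizer_singleton_iff.1 hq))⟩, rfl⟩
  have hnD : ∀ n : nA, (n : cA) ∈ D := fun n => by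
    obtain ⟨y, hy, e, he, hye⟩ := sup_spec.1 (Subgroup.mem_subgroupOf.1 n.2)
    rw [Subgroup.mem_subgroupOf, ← hye, mem_c0]
    rw [mul_assoc, ← Subgroup.mem_center_iff.1 he octFlip, ← mul_assoc,
      Subgroup.mem_centralizer_iff.1 octFlip_mem_cA y hy, mul_assoc]
  have hk : 10 ≤ Nat.card π.ker := five_two_dvd.trans (Nat.card_le_card_of_injective
    (fun n : nA => (⟨⟨n, hnD n⟩, MonoidHom.mem_ker.2 (by
      show QuotientGroup.mk' nA (n : cA) = 1
      rw [← MonoidHom.mem_ker, QuotientGroup.ker_mk']; exact n.2)⟩ : π.ker))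
    fun a b h => Subtype.ext (congrArg (fun k : π.ker => ((k : D) : cA)) h))
  have hD : Nat.card D ≤ 19200 := by
    refine (Nat.card_le_card_of_injective (fun d : D => (⟨⟨((d : cA) : Co0), d.2⟩,
      Subgroup.mem_centralizer_singleton_iff.2 (Subtype.ext (mem_cA.1 (d : cA).2))⟩ : cG)) ?_).trans card_cG
    intro a b h
    exact Subtype.ext (Subtype.ext (congrArg (fun k : cG => ((k : c0) : Co0)) h))
  rw [← π.ker.card_mul_index, Subgroup.index_ker] at hD
  have hr : Nat.card π.range ≤ 1920 := by
    have := Nat.mul_le_mul_right (Nat.card π.range) hk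
    omega
  exact (Nat.card_mono (Set.toFinite _) hle).trans hr

/-- The element squaring to minus one. -/
noncomputable def xA : cA := ev tListA xWord

theorem xA_sq : (xA : Co0) * (xA : Co0) = Leech.negAut := by
  rw [← ev_x, ev_append]
  have h : (xA : Co0) = ev tList xWord := by
    show cA.subtype (ev tListA xWord) = _
    rw [map_ev, tListA_map]
  rw [h]

theorem two_classes : ∃ a b : cA ⧸ nA, orderOf a = 2 ∧ orderOf b = 2 ∧ ¬ IsConj a b := by
  refine ⟨phi J2.Perm.z, QuotientGroup.mk' nA xA, by rw [orderOf_injective phi phi_injective, orderOf_z], ?_, ?_⟩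
  · refine orderOf_eq_prime (hp := ⟨Nat.prime_two⟩) ?_ fun h => ?_
    · rw [pow_two, ← map_mul, QuotientGroup.mk'_apply, QuotientGroup.eq_one_iff, Subgroup.mem_subgroupOf]
      show (xA : Co0) * (xA : Co0) ∈ _
      rw [xA_sq]
      exact Subgroup.mem_sup_right Leech.negAut_central
    · rw [QuotientGroup.mk'_apply, QuotientGroup.eq_one_iff, Subgroup.mem_subgroupOf] at h
      obtain ⟨y, hy, e, he, hye⟩ := sup_spec.1 h
      have h1 := sq_sup hy he (one_mem cA)
      simp only [one_mul, hye, xA_sq] at h1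
      exact sq_ne_neg hy h1.symm
  · intro hc
    obtain ⟨q, hq⟩ := isConj_iff.1 hc
    obtain ⟨g, rfl⟩ := QuotientGroup.mk'_surjective nA q
    rw [phi_z, ← map_inv, ← map_mul, ← map_mul, QuotientGroup.mk'_apply, QuotientGroup.mk'_apply, QuotientGroup.eq,
      Subgroup.mem_subgroupOf] at hq
    obtain ⟨y, hy, e, he, hye⟩ := sup_spec.1 hq
    set w : Co0 := (g : Co0) * octFlip * (g : Co0)⁻¹ with hw
    have hx : (xA : Co0) = w * (y * e) := by
      have h' : y * e = w⁻¹ * (xA : Co0) := hye
      rw [h', mul_inv_cancel_left]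
    have hwA : w ∈ cA := mul_mem (mul_mem g.2 octFlip_mem_cA) (inv_mem g.2)
    have h1 := sq_sup hy he hwA
    rw [← hx, xA_sq, show w * w = 1 by
      rw [hw, show ∀ a b : Co0, a * b * a⁻¹ * (a * b * a⁻¹) = a * (b * b) * a⁻¹ from fun a b => by group,
        octFlip_sq, mul_one, mul_inv_cancel], one_mul] at h1
    exact sq_ne_neg hy h1.symm

theorem phi_bijective : Function.Bijective phi := by
  haveI := finite_co0
  refine phi_injective.bijective_of_nat_card_le ?_
  rw [J2.Perm.card_P, card_eq phi phi_injective card_cent two_classes]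

theorem main : ∃ A : Subgroup Co0, Nat.card A = 5 ∧
    ∃ (_ : ((A ⊔ Subgroup.center Co0).subgroupOf (Subgroup.centralizer (A : Set Co0))).Normal),
      ∃ (S : Type) (_ : Group S) (_ : Finite S),
        Nonempty (S ≃* Subgroup.centralizer (A : Set Co0) ⧸
          (A ⊔ Subgroup.center Co0).subgroupOf (Subgroup.centralizer (A : Set Co0))) ∧
        IsSimpleGroup S ∧ ¬ IsMulCommutative S ∧ ∃ z : S, orderOf z = 2 ∧
          ∃ (Q : Subgroup (Subgroup.centralizer ({z} : Set S))) (_ : Q.Normal),
            Cfsg.generalizedFittingSubgroup (Subgroup.centralizer ({z} : Set S)) = Q ∧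
            Cfsg.IsExtraspecial 2 Q ∧ Nat.card Q = 2 ^ 5 ∧
            Nonempty ((Subgroup.centralizer ({z} : Set S)) ⧸ Q ≃*
              Cfsg.Omega (ZMod 2) (Cfsg.quadFormMinus 1 (ZMod 2) 1 1)) ∧
            ∃ g : S, (∃ hq : g * z * g⁻¹ ∈ Subgroup.centralizer ({z} : Set S),
              (⟨g * z * g⁻¹, hq⟩ : Subgroup.centralizer ({z} : Set S)) ∈ Q) ∧ g * z * g⁻¹ ≠ z := by
  obtain ⟨hs, hna, rest⟩ := presented_hyp
  exact ⟨aE, card_aE, nA_normal, J2.Perm.P, inferInstance, J2.Perm.finite_P,
    ⟨MulEquiv.ofBijective phi phi_bijective⟩, hs, hna, rest⟩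

end CfsgLib.CoFive
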